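import Cfsg.Agent.Fusion.NormalCentralizer.Admissible
import Cfsg.Agent.Fusion.NormalizerSystem
import Cfsg.Agent.Fusion.JControl

/-!
Preliminaries for the centralizer of a normal subsystem: Thompson subgroups, lifts and conjugates.
-/

set_option autoImplicit false
set_option linter.unusedSectionVars false
set_option linter.style.haveILetI false

namespace Cfsg.Lib.Fusion.SmallCent

open Cfsg Cfsg.FusionSystem Cfsg.Lib.Fusion

universe u

variable {Ω : Type u} [Group Ω] {S T : Subgroup Ω} {F : FusionSystem S} {E : FusionSystem T}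
  {p : ℕ}

/-! ### Thompson subgroups -/

theorem relIndex_sup_normalized {G : Type*} [Group G] {C K : Subgroup G}
    (h : K ≤ Subgroup.normalizer (C : Set G)) : C.relIndex (C ⊔ K) = C.relIndex K := by
  set H := Subgroup.normalizer (C : Set G)
  haveI : (C.subgroupOf H).Normal := Subgroup.normal_in_normalizer
  rw [← Subgroup.relIndex_subgroupOf (sup_le Subgroup.le_normalizer h : C ⊔ K ≤ H),
    Subgroup.subgroupOf_sup Subgroup.le_normalizer h, Subgroup.relIndex_sup_left,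
    Subgroup.relIndex_subgroupOf h]

theorem zpow_inf {P : Subgroup Ω} {v : Ω} (hv : v ∈ centralizerIn S P) {x : Ω}
    (hx : x ∈ Subgroup.zpowers v ⊓ P) : x ∈ centralizerIn P P := by
  refine Fusion.mem_centralizerIn.mpr ⟨hx.2, fun y hy => ?_⟩
  have h : x ∈ centralizerIn S P := Subgroup.zpowers_le.mpr hv hx.1
  exact (Fusion.mem_centralizerIn.mp h).2 y hy

/-- The Thompson subgroup of the product with a central cyclic subgroup. -/
theorem thompson_sup_zpowers [Finite S] {P : Subgroup Ω} (hP : P ≤ S) {v : Ω}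
    (hv : v ∈ centralizerIn S P) :
    thompsonSubgroupAOf (P ⊔ Subgroup.zpowers v) = thompsonSubgroupAOf P ⊔ Subgroup.zpowers v ∧
      thompsonSubgroupAOf (P ⊔ Subgroup.zpowers v) ⊓ P = thompsonSubgroupAOf P := by
  set Z := Subgroup.zpowers v with hZ
  have hvS : v ∈ S := hv.1
  set W := P ⊔ Z
  have hWS : W ≤ S := sup_le hP (Subgroup.zpowers_le.mpr hvS)
  haveI := finite_of_le hP
  haveI := finite_of_le hWS
  have hcx : ∀ {X : Subgroup Ω}, X ≤ P → v ∈ centralizerIn S X := fun h =>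
    NormCent.centralizerIn_anti h hv
  have hvW : v ∈ centralizerIn W W := by
    refine Fusion.mem_centralizerIn.mpr ⟨Subgroup.mem_sup_right (Subgroup.mem_zpowers v),
      fun w hw => ?_⟩
    obtain ⟨a, ha, i, rfl⟩ := NormCent.mem_sup_zpowers hv hw
    have h1 : Commute v a := NormCent.centralizerIn_comm hv ha
    rw [(h1.mul_right (Commute.zpow_right rfl i)).eq, mul_inv_cancel_right]
  have hinf : ∀ {X : Subgroup Ω}, X ≤ P → P ⊓ Z ≤ X → (X ⊔ Z) ⊓ P = X := fun {X} hXP hD =>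
    le_antisymm (fun x hx => by
      obtain ⟨a, ha, i, rfl⟩ := NormCent.mem_sup_zpowers (hcx hXP) hx.1
      refine X.mul_mem ha (hD ⟨?_, i, rfl⟩)
      have := P.mul_mem (P.inv_mem (hXP ha)) hx.2
      rwa [inv_mul_cancel_left] at this) (le_inf le_sup_left hXP)
  have hcard : ∀ {X : Subgroup Ω}, X ≤ P → P ⊓ Z ≤ X →
      Nat.card (X ⊔ Z : Subgroup Ω) = Nat.card X * (P ⊓ Z).relIndex Z := fun {X} hXP hD => by
    have hn : Z ≤ Subgroup.normalizer (X : Set Ω) :=
      Subgroup.zpowers_le.mpr (centralizerIn_le_normalizerIn X (hcx hXP)).2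
    have h2 : X ⊓ Z = P ⊓ Z :=
      le_antisymm (inf_le_inf_right Z hXP) (le_inf hD inf_le_right)
    have h := Subgroup.relIndex_mul_relIndex ⊥ X (X ⊔ Z) bot_le le_sup_left
    rw [Subgroup.relIndex_bot_left, Subgroup.relIndex_bot_left, relIndex_sup_normalized hn,
      ← Subgroup.inf_relIndex_right, h2] at h
    exact h.symm
  have hDmax : ∀ {B : Subgroup Ω}, B ∈ maxAb P → P ⊓ Z ≤ B := fun hB x hx =>
    centralizerIn_self_le_maxAb hB (zpow_inf hv ⟨hx.2, hx.1⟩)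
  have hpos : 0 < (P ⊓ Z).relIndex Z := by
    haveI : Finite Z := finite_of_le (Subgroup.zpowers_le.mpr hvS)
    exact Nat.pos_of_ne_zero Subgroup.index_ne_zero_of_finite
  have hcomm : ∀ {B : Subgroup Ω}, B ≤ P → IsMulCommutative B →
      IsMulCommutative (B ⊔ Z : Subgroup Ω) := fun {B} hBP hB => by
    refine ⟨⟨fun a b => Subtype.ext ?_⟩⟩
    obtain ⟨a₁, ha₁, i, ea⟩ := NormCent.mem_sup_zpowers (hcx hBP) a.2
    obtain ⟨b₁, hb₁, j, eb⟩ := NormCent.mem_sup_zpowers (hcx hBP) b.2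
    show (a : Ω) * b = b * a
    rw [← ea, ← eb]
    have h1 : Commute a₁ b₁ := congrArg Subtype.val (hB.is_comm.comm ⟨a₁, ha₁⟩ ⟨b₁, hb₁⟩)
    have h2 : ∀ x ∈ B, ∀ k : ℤ, Commute x (v ^ k) := fun x hx k =>
      ((show Commute v x from NormCent.centralizerIn_comm hv (hBP hx)).zpow_left k).symm
    exact (h1.mul_right (h2 a₁ ha₁ j)).mul_left
      ((h2 b₁ hb₁ i).symm.mul_right ((Commute.refl v).zpow_zpow i j))
  -- the largest abelian subgroups correspond
  have hfwd : ∀ A ∈ maxAb W, A ⊓ P ∈ maxAb P ∧ A = A ⊓ P ⊔ Z := fun A hA => by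
    have hvA : v ∈ A := centralizerIn_self_le_maxAb hA hvW
    have hZA : Z ≤ A := Subgroup.zpowers_le.mpr hvA
    have hD : P ⊓ Z ≤ A ⊓ P := fun x hx => ⟨hZA hx.2, hx.1⟩
    have hAe : A = A ⊓ P ⊔ Z := le_antisymm (fun x hx => by
      obtain ⟨a, ha, i, rfl⟩ := NormCent.mem_sup_zpowers hv (hA.1 hx)
      refine Subgroup.mul_mem _ (Subgroup.mem_sup_left ⟨?_, ha⟩) (Subgroup.mem_sup_right ⟨i, rfl⟩)
      have := A.mul_mem hx (A.inv_mem (A.zpow_mem hvA i))
      rwa [mul_inv_cancel_right] at this) (sup_le inf_le_left hZA)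
    haveI := hA.2.1
    refine ⟨⟨inf_le_right, ⟨⟨fun a b => Subtype.ext (congrArg Subtype.val
      (hA.2.1.is_comm.comm (⟨a, a.2.1⟩ : A) ⟨b, b.2.1⟩) :)⟩⟩, fun B hBP hB => ?_⟩, hAe⟩
    obtain ⟨B₀, hB₀⟩ := maxAb_nonempty (T := P)
    refine (hB₀.2.2 B hBP hB).trans ?_
    have h1 := hA.2.2 (B₀ ⊔ Z) (sup_le_sup_right hB₀.1 Z) (hcomm hB₀.1 hB₀.2.1)
    rw [hcard hB₀.1 (hDmax hB₀), hAe, hcard inf_le_right hD] at h1
    exact Nat.le_of_mul_le_mul_right h1 hpos
  have hbwd : ∀ B ∈ maxAb P, B ⊔ Z ∈ maxAb W := fun B hB => by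
    refine ⟨sup_le_sup_right hB.1 Z, hcomm hB.1 hB.2.1, fun A' h1 h2 => ?_⟩
    obtain ⟨A, hA⟩ := maxAb_nonempty (T := W)
    obtain ⟨hAP, hAe⟩ := hfwd A hA
    refine (hA.2.2 A' h1 h2).trans ?_
    rw [hAe, hcard hAP.1 (hDmax hAP), hcard hB.1 (hDmax hB)]
    exact Nat.mul_le_mul_right _ (hB.2.2 _ hAP.1 hAP.2.1)
  have hJ : thompsonSubgroupAOf W = thompsonSubgroupAOf P ⊔ Z := by
    rw [thompsonAOf_eq, thompsonAOf_eq]
    obtain ⟨B, hB⟩ := maxAb_nonempty (T := P)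
    refine le_antisymm (sSup_le fun A hA => ?_) (sup_le (sSup_le fun B' hB' =>
      le_sup_left.trans (le_sSup (hbwd B' hB'))) (le_sup_right.trans (le_sSup (hbwd B hB))))
    obtain ⟨hAP, hAe⟩ := hfwd A hA
    rw [hAe]
    exact sup_le_sup_right (le_sSup hAP) _
  refine ⟨hJ, ?_⟩
  rw [hJ]
  refine hinf (thompsonAOf_le P) fun x hx => ?_
  exact center_le_thompsonAOf (show x ∈ P ⊓ Subgroup.centralizer (P : Set Ω) from
    zpow_inf hv ⟨hx.2, hx.1⟩)

/-- The functor is carried by the maps. -/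
theorem thompson_img [Finite S] (hS : IsPGroup p S) {P P' : Subgroup Ω} {f : Ω → Ω}
    (hf : IsMap F P f) (hi : img P f = P') :
    img (thompsonSubgroupAOf P) f = thompsonSubgroupAOf P' := by
  haveI := finite_of_le hf.le
  exact fnImage_img (W := jFun) jFun_map (hS.of_injective _ (Subgroup.inclusion_injective hf.le))
    hf hi

theorem centralizerIn_thompson {P : Subgroup Ω} [Finite P] :
    centralizerIn P (thompsonSubgroupAOf P) ≤ thompsonSubgroupAOf P :=
  centralizerIn_thompsonAOf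

/-! ### Lifts -/

/-- An automorphism of `Q C_S(Q)` inducing a member of the subsystem on `Q` and shifting the
centralizer inside `Q`. -/
def IsShift (F : FusionSystem S) (E : FusionSystem T) (Q : Subgroup Ω)
    (δ : MulAut (Q ⊔ centralizerIn S Q : Subgroup Ω)) : Prop :=
  δ ∈ F.autGroup (Q ⊔ centralizerIn S Q) ∧
    (∃ α ∈ E.autGroup Q, ∀ x ∈ Q, autFun δ x = autFun α x) ∧
      ∀ c ∈ centralizerIn S Q, c⁻¹ * autFun δ c ∈ Q

variable {Q : Subgroup Ω} {δ δ' : MulAut (Q ⊔ centralizerIn S Q : Subgroup Ω)}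

theorem IsShift.map_mem (h : IsShift F E Q δ) {x : Ω} (hx : x ∈ Q) : autFun δ x ∈ Q := by
  obtain ⟨α, -, e⟩ := h.2.1
  rw [e x hx]
  exact autFun_mem α hx

theorem isShift_one : IsShift F E Q 1 :=
  ⟨one_mem _, ⟨1, one_mem _, fun x hx => by
    rw [autFun_one (Subgroup.mem_sup_left hx : x ∈ Q ⊔ centralizerIn S Q), autFun_one hx]⟩,
    fun c hc => by
      rw [autFun_one (Subgroup.mem_sup_right hc : c ∈ Q ⊔ centralizerIn S Q), inv_mul_cancel]
      exact Q.one_mem⟩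

theorem IsShift.mul (hQ : Q ≤ S) (h : IsShift F E Q δ) (h' : IsShift F E Q δ') :
    IsShift F E Q (δ * δ') := by
  obtain ⟨hF, ⟨α, hα, e⟩, hc⟩ := h
  obtain ⟨hF', ⟨α', hα', e'⟩, hc'⟩ := h'
  refine ⟨mul_mem hF hF', ⟨α * α', mul_mem hα hα', fun x hx => ?_⟩, fun c hc₀ => ?_⟩
  · rw [autFun_mul _ _ (Subgroup.mem_sup_left hx : x ∈ Q ⊔ centralizerIn S Q), autFun_mul _ _ hx,
      e' x hx, e _ (autFun_mem α' hx)]
  · have hcX : c ∈ Q ⊔ centralizerIn S Q := Subgroup.mem_sup_right hc₀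
    have hq := hc' c hc₀
    have hm : IsMap F (Q ⊔ centralizerIn S Q) (autFun δ) :=
      (isMap_autFun (sup_le hQ inf_le_left)).mpr hF
    rw [autFun_mul _ _ hcX, show autFun δ' c = c * (c⁻¹ * autFun δ' c) by group,
      hm.map_mul hcX (Subgroup.mem_sup_left hq), ← mul_assoc, e _ hq]
    exact Q.mul_mem (hc c hc₀) (autFun_mem α hq)

theorem IsShift.inv [Finite S] (hQ : Q ≤ S) (h : IsShift F E Q δ) : IsShift F E Q δ⁻¹ := by
  haveI : Finite (Q ⊔ centralizerIn S Q : Subgroup Ω) :=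
    finite_of_le (S := S) (sup_le hQ inf_le_left)
  haveI := NormCent.finite_mulAut (Q ⊔ centralizerIn S Q)
  refine NormCent.inv_mem_of_pow (good := IsShift F E Q) fun n => ?_
  induction n with
  | zero => rw [pow_zero]; exact isShift_one
  | succ n ih => rw [pow_succ]; exact ih.mul hQ h

/-! ### Conjugates -/

variable [Finite S] [Fact p.Prime]

/-- The product of a fully centralized subgroup with its centralizer is centric. -/
theorem centric_sup_centralizerIn (hQ : F.IsFullyCentralized Q) :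
    F.IsCentric (Q ⊔ centralizerIn S Q) := by
  have hXS : Q ⊔ centralizerIn S Q ≤ S := sup_le hQ.1 inf_le_left
  refine ⟨hXS, fun U hU c hc => ?_⟩
  obtain ⟨f, hf, rfl⟩ := isConj_iff.mp hU
  have h1 : c ∈ centralizerIn S (img Q f) :=
    NormCent.centralizerIn_anti (img_mono le_sup_left f) hc
  obtain ⟨a, ha, rfl⟩ := exists_preimage_of_card_le hf le_sup_right inf_le_left
    (fun a ha => hf.mem_centralizerIn le_sup_left (Subgroup.mem_sup_right ha) ha)
    (hQ.2 _ (isConj_iff.mpr ⟨f, hf.mono le_sup_left, rfl⟩)) h1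
  exact IsMap.apply_mem_img (Subgroup.mem_sup_right ha)

/-- A conjugate which is fully normalized together with the product with its centralizer. -/
theorem exists_good_conj (hS : IsPGroup p S) (hF : F.IsSaturated p) (hQ : Q ≤ S) :
    ∃ Q' g, IsMap F (normalizerIn S Q) g ∧ img Q g = Q' ∧
      (∀ x ∈ normalizerIn S Q, g x ∈ normalizerIn S Q') ∧
      F.IsFullyNormalized Q' ∧ F.IsFullyNormalized (Q' ⊔ centralizerIn S Q') := by
  obtain ⟨Q₁, hQQ₁, hQ₁⟩ := exists_fullyNormalized (F := F) hQ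
  obtain ⟨f₀, hf₀, hi₀⟩ := isConj_iff.mp hQQ₁
  obtain ⟨hfc, hfa, hrec⟩ := fullyNormalized_props hS hF hQ₁
  obtain ⟨-, -, g₁, hg₁, hg₁i, -, hg₁N⟩ := exists_map_normalizer hS hfa hrec hf₀ hi₀
  set X₁ := Q₁ ⊔ centralizerIn S Q₁
  have hX₁S : X₁ ≤ S := sup_le hfc.1 inf_le_left
  obtain ⟨X₂, hX, hX₂⟩ := exists_fullyNormalized (F := F) hX₁S
  obtain ⟨f₂, hf₂, hi₂⟩ := isConj_iff.mp hX
  obtain ⟨-, hfa₂, hrec₂⟩ := fullyNormalized_props hS hF hX₂
  obtain ⟨-, -, g₂, hg₂, hg₂i, -, -⟩ := exists_map_normalizer hS hfa₂ hrec₂ hf₂ hi₂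
  have hN : normalizerIn S Q₁ ≤ normalizerIn S X₁ := by
    intro s hs
    haveI := finite_of_le hX₁S
    refine ⟨hs.1, mem_normalizer_of_maps_finite fun x hx => ?_⟩
    obtain ⟨a, ha, c, hc, rfl⟩ := NormCent.mem_sup_centralizerIn.mp hx
    rw [show s * (a * c) * s⁻¹ = s * a * s⁻¹ * (s * c * s⁻¹) by group]
    refine X₁.mul_mem (Subgroup.mem_sup_left (conj_mem_of_mem_normalizer hs.2 ha))
      (Subgroup.mem_sup_right ?_)
    have h1 := (isMap_conj (F := F) le_rfl hs.1).mem_centralizerIn hfc.1 hc.1 hc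
    have h2 : img Q₁ (fun x => s * x * s⁻¹) = Q₁ := by
      haveI := finite_of_le hfc.1
      exact img_eq_of_apply (isMap_conj (F := F) hfc.1 hs.1) le_rfl fun x hx =>
        conj_mem_of_mem_normalizer hs.2 hx
    rwa [h2] at h1
  have hg₂' := hg₂.mono hN
  have hQN : Q₁ ≤ normalizerIn S Q₁ := le_normalizerIn hfc.1
  have hCN : centralizerIn S Q₁ ≤ normalizerIn S Q₁ := centralizerIn_le_normalizerIn Q₁
  set Q' := img Q₁ g₂
  have hgN : ∀ x ∈ normalizerIn S Q₁, g₂ x ∈ normalizerIn S Q' := fun x hx =>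
    hg₂'.mem_normalizerIn hQN hx hx.2
  have hconj : F.IsConj Q₁ Q' := isConj_iff.mpr ⟨g₂, hg₂'.mono hQN, rfl⟩
  have hQ' : F.IsFullyNormalized Q' := by
    refine ⟨(hg₂'.mono hQN).img_le, fun R hR => (hQ₁.2 R (isConj_trans hconj hR)).trans ?_⟩
    exact card_le_of_isMap hg₂' le_rfl inf_le_left hgN
  refine ⟨Q', g₂ ∘ g₁, hg₁.comp hg₂' hg₁N, ?_, fun x hx => hgN _ (hg₁N x hx), hQ', ?_⟩
  · rw [img_comp (hg₁.mono (le_normalizerIn hQ)) (hg₁i.symm ▸ hg₂'.mono hQN), hg₁i]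
  · suffices Q' ⊔ centralizerIn S Q' = X₂ by rwa [this]
    rw [← hg₂i, (hg₂'.mono (sup_le hQN hCN)).img_sup]
    congr 1
    refine le_antisymm (fun c hc => ?_) (IsMap.img_le_iff.mpr fun c hc =>
      hg₂'.mem_centralizerIn hQN (hCN hc) hc)
    obtain ⟨a, ha, rfl⟩ := exists_preimage_of_card_le hg₂' hCN inf_le_left
      (fun a ha => hg₂'.mem_centralizerIn hQN (hCN ha) ha) (hfc.2 Q' hconj) hc
    exact IsMap.apply_mem_img ha

/-- The largest normalizer inside the strongly closed subgroup among all conjugates. -/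
theorem card_normalizerIn_le (hinv : E.IsInvariantIn F) (hQ : E.IsFullyNormalized Q)
    {Q' : Subgroup Ω} {f : Ω → Ω} (hf : IsMap F Q f) (hi : img Q f = Q') :
    Nat.card (normalizerIn T Q') ≤ Nat.card (normalizerIn T Q) := by
  have hTS : T ≤ S := hinv.2.1.1
  haveI := finite_of_le hTS
  obtain ⟨α, hα, f₀, hf₀, e⟩ := CharSub.frattiniT hinv hQ.1 hf
  refine le_trans ?_ (hQ.2 _ (isConj_iff.mpr ⟨f₀, hf₀, rfl⟩))
  have hαi : IsMap F T (autFun α⁻¹) := (isMap_autFun hTS).mpr (Subgroup.inv_mem _ hα)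
  have hf₀T : ∀ x ∈ Q, f₀ x ∈ T := fun x hx => hf₀.mem_S hx
  have hQ'T : Q' ≤ T := by
    rw [← hi]
    exact IsMap.img_le_iff.mpr fun x hx => e x hx ▸ autFun_mem α (hf₀T x hx)
  have hback : img Q' (autFun α⁻¹) = img Q f₀ := by
    refine le_antisymm (IsMap.img_le_iff.mpr fun y hy => ?_) (IsMap.img_le_iff.mpr fun x hx => ?_)
    · rw [← hi] at hy
      obtain ⟨x, hx, rfl⟩ := hf.mem_img.mp hy
      rw [e x hx, autFun_inv_apply' α (hf₀T x hx)]
      exact IsMap.apply_mem_img hx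
    · rw [← autFun_inv_apply' α (hf₀T x hx), ← e x hx]
      exact IsMap.apply_mem_img (hi ▸ IsMap.apply_mem_img hx)
  refine card_le_of_isMap hαi inf_le_left (inf_le_left.trans hTS) fun t ht => ?_
  have := hαi.mem_normalizerIn hQ'T ht.1 ht.2
  rw [hback] at this
  exact ⟨autFun_mem _ ht.1, this.2⟩

end Cfsg.Lib.Fusion.SmallCent
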