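import Cfsg.Agent.Fusion.SmallCent.Group

/-!
Fixed points of the groups of lifts.
-/

set_option autoImplicit false
set_option linter.unusedSectionVars false
set_option linter.style.haveILetI false

namespace Cfsg.Lib.Fusion.SmallCent

open Cfsg Cfsg.FusionSystem Cfsg.Lib.Fusion

universe u

variable {Ω : Type u} [Group Ω] {S T : Subgroup Ω} {F : FusionSystem S} {E : FusionSystem T}
  {p : ℕ} {Q : Subgroup Ω} {Λ : Type u} [Group Λ]
  {ι : normalizerIn S (Q ⊔ centralizerIn S Q) →* Λ} {M : Subgroup Λ}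

theorem Loc.apply_eq (h : Loc F E p Q ι M) {m : Λ}
    {δ : MulAut (Q ⊔ centralizerIn S Q : Subgroup Ω)} (hXS : Q ⊔ centralizerIn S Q ≤ S)
    (hrel : Rel ι m δ) {x x' : Ω} (hx : x ∈ Q ⊔ centralizerIn S Q)
    (hx' : x' ∈ normalizerIn S (Q ⊔ centralizerIn S Q)) (e : emb ι x' = m * emb ι x * m⁻¹) :
    autFun δ x = x' :=
  emb_inj h.inj (le_normalizerIn hXS (autFun_mem δ hx)) hx' (by rw [hrel x hx, e])

/-- In odd characteristic an element centralizing the Sylow subgroup is fixed by all the lifts once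
it is fixed by those normalizing the Thompson subgroup. -/
theorem Loc.fix [Finite S] [Finite Λ] [Fact p.Prime] (hp : p ≠ 2) (hS : IsPGroup p S) (hTS : T ≤ S)
    (hQT : Q ≤ T) (h : Loc F E p Q ι M) {v : Ω} (hv : v ∈ centralizerIn S Q)
    (hvP : v ∈ centralizerIn S (normalizerIn T Q))
    (hkey : ∀ δ, IsShift F E Q δ → (orderOf δ).Coprime p →
      (∀ t ∈ thompsonSubgroupAOf (normalizerIn T Q), ∃ t' ∈ thompsonSubgroupAOf (normalizerIn T Q),
        (∀ x ∈ Q, autFun δ (t * x * t⁻¹) = t' * autFun δ x * t'⁻¹) ∧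
          (t ∈ Q ⊔ centralizerIn S Q → autFun δ t = t')) →
      autFun δ v = v) :
    ∀ δ, IsShift F E Q δ → (orderOf δ).Coprime p → autFun δ v = v := by
  have hQS : Q ≤ S := hQT.trans hTS
  let X := Q ⊔ centralizerIn S Q
  have hXS : X ≤ S := sup_le hQS inf_le_left
  let N := normalizerIn S X
  have hXN : X ≤ N := le_normalizerIn hXS
  set P := normalizerIn T Q
  have hPS : P ≤ S := inf_le_left.trans hTS
  have hPN : P ≤ N := (show P ≤ normalizerIn S Q from fun t ht => ⟨hTS ht.1, ht.2⟩).trans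
    (le_normalizerIn_sup hQS)
  have hvX : v ∈ X := Subgroup.mem_sup_right hv
  have hvN : v ∈ N := hXN hvX
  have hQN : Q ≤ N := le_trans le_sup_left hXN
  have hQP : Q ≤ P := le_normalizerIn hQT
  set W := P ⊔ Subgroup.zpowers v
  have hWN : W ≤ N := sup_le hPN (Subgroup.zpowers_le.mpr hvN)
  haveI := finite_of_le hPS
  have hWS : W ≤ S := sup_le hPS (Subgroup.zpowers_le.mpr hv.1)
  haveI := finite_of_le hWS
  set e := emb ι v
  set D := sub ι P
  have hDM : D ≤ M := fun l hl => by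
    obtain ⟨t, ht, rfl⟩ := (mem_sub hPN).mp hl
    exact (h.mem t (hPN ht)).mpr ht
  -- conjugates of `e`
  have hshift : ∀ m ∈ M, ∃ q ∈ Q, m * e * m⁻¹ = e * emb ι q := fun m hm => by
    obtain ⟨δ, hδ, hrel⟩ := h.act m hm
    refine ⟨_, hδ.2.2 v hv, ?_⟩
    rw [← emb_mul hvN (hQN (hδ.2.2 v hv)), mul_inv_cancel_left]
    exact (hrel v hvX).symm
  have hqM : ∀ q ∈ Q, emb ι q ∈ M := fun q hq => (h.mem q (hQN hq)).mpr (hQP hq)
  have hMK : Subgroup.zpowers e ≤ Subgroup.normalizer (M : Set Λ) := by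
    refine Subgroup.zpowers_le.mpr (mem_normalizer_of_maps_finite fun m hm => ?_)
    obtain ⟨q, hq, eq⟩ := hshift m⁻¹ (M.inv_mem hm)
    rw [inv_inv] at eq
    have : e * m * e⁻¹ = m * emb ι q := by
      have hc : emb ι q * e = e * emb ι q := by
        rw [← emb_mul (hQN hq) hvN, ← emb_mul hvN (hQN hq), NormCent.centralizerIn_comm hv hq]
      calc e * m * e⁻¹ = m * (m⁻¹ * e * m) * e⁻¹ := by group
        _ = m * (e * emb ι q) * e⁻¹ := by rw [eq]
        _ = m * emb ι q := by rw [← hc]; group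
    rw [this]
    exact M.mul_mem hm (hqM q hq)
  set K := Subgroup.zpowers e
  set G := M ⊔ K
  -- the Sylow subgroup
  have hWG : ∀ x : W, ι (Subgroup.inclusion hWN x) ∈ G := by
    intro x
    obtain ⟨a, ha, i, ei⟩ := NormCent.mem_sup_zpowers hvP x.2
    have hx : Subgroup.inclusion hWN x = ⟨a, hPN ha⟩ * (⟨v, hvN⟩ : N) ^ i :=
      Subtype.ext (by simpa using ei.symm)
    rw [hx, map_mul, map_zpow]
    refine G.mul_mem (Subgroup.mem_sup_left ?_) (Subgroup.mem_sup_right ?_)
    · rw [emb_range]; exact (h.mem a (hPN ha)).mpr ha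
    · rw [emb_range]; exact K.zpow_mem (Subgroup.mem_zpowers e) i
  let ι' : W →* G := (ι.comp (Subgroup.inclusion hWN)).codRestrict G hWG
  have hι' : Function.Injective ι' := fun a b hab =>
    Subgroup.inclusion_injective hWN (h.inj (congrArg Subtype.val hab))
  have hι'e : ∀ x : W, ((ι' x : G) : Λ) = emb ι (x : Ω) := fun x => emb_range (ι := ι) (Subgroup.inclusion hWN x)
  have hDK : K ≤ Subgroup.normalizer (D : Set Λ) := by
    refine Subgroup.zpowers_le.mpr (mem_normalizer_of_maps_finite fun l hl => ?_)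
    obtain ⟨t, ht, rfl⟩ := (mem_sub hPN).mp hl
    rw [← emb_conj hvN (hPN ht), (Fusion.mem_centralizerIn.mp hvP).2 t ht]
    exact emb_mem_sub hPN ht
  have hrange : ι'.range = (D ⊔ K).subgroupOf G := by
    refine le_antisymm ?_ fun g hg => ?_
    · rintro _ ⟨x, rfl⟩
      refine Subgroup.mem_subgroupOf.mpr ?_
      obtain ⟨a, ha, i, ei⟩ := NormCent.mem_sup_zpowers hvP x.2
      rw [hι'e, ← ei, emb_mul (hPN ha) (N.zpow_mem hvN i), emb_eq (N.zpow_mem hvN i),
        show (⟨v ^ i, N.zpow_mem hvN i⟩ : N) = ⟨v, hvN⟩ ^ i from Subtype.ext (by simp), map_zpow,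
        emb_range]
      exact Subgroup.mul_mem _ (Subgroup.mem_sup_left (emb_mem_sub hPN ha))
        (Subgroup.mem_sup_right (K.zpow_mem (Subgroup.mem_zpowers e) i))
    · have hle : D ⊔ K ≤ ι'.range.map G.subtype := by
        refine sup_le (fun l hl => ?_) (Subgroup.zpowers_le.mpr ?_)
        · obtain ⟨t, ht, rfl⟩ := (mem_sub hPN).mp hl
          exact ⟨_, ⟨⟨t, Subgroup.mem_sup_left ht⟩, rfl⟩, hι'e _⟩
        · exact ⟨_, ⟨⟨v, Subgroup.mem_sup_right (Subgroup.mem_zpowers v)⟩, rfl⟩, hι'e _⟩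
      obtain ⟨g', hg', e'⟩ := hle (Subgroup.mem_subgroupOf.mp hg)
      exact Subtype.ext e' ▸ hg'
  have hWp : IsPGroup p W := hS.of_injective _ (Subgroup.inclusion_injective hWS)
  have hsyl : ¬ p ∣ ι'.range.index := by
    rw [hrange, show ((D ⊔ K).subgroupOf G).index = (D ⊔ K).relIndex G from rfl]
    have hinf : M ⊓ K = D ⊓ K := by
      refine le_antisymm (fun l hl => ⟨?_, hl.2⟩) (inf_le_inf_right K hDM)
      obtain ⟨i, rfl⟩ := Subgroup.mem_zpowers_iff.mp hl.2
      have he : emb ι (v ^ i) = e ^ i := by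
        rw [emb_eq (N.zpow_mem hvN i),
          show (⟨v ^ i, N.zpow_mem hvN i⟩ : N) = ⟨v, hvN⟩ ^ i from Subtype.ext (by simp), map_zpow,
          emb_range]
      rw [← he] at hl ⊢
      exact emb_mem_sub hPN ((h.mem _ (N.zpow_mem hvN i)).mp hl.1)
    have h1 := Subgroup.relIndex_mul_relIndex D (D ⊔ K) G le_sup_left (sup_le_sup_right hDM K)
    have h2 := Subgroup.relIndex_mul_relIndex D M G hDM le_sup_left
    rw [relIndex_sup_normalized hDK, ← Subgroup.inf_relIndex_right, ← hinf,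
      Subgroup.inf_relIndex_right] at h1
    rw [relIndex_sup_normalized hMK, ← h1, mul_comm] at h2
    haveI : Finite K := inferInstance
    rw [← Nat.eq_of_mul_eq_mul_left (Nat.pos_of_ne_zero Subgroup.index_ne_zero_of_finite) h2]
    exact h.syl
  let U : Sylow p G :=
    IsPGroup.toSylow (hWp.of_surjective _ (MonoidHom.rangeRestrict_surjective ι')) hsyl
  have hU : (U : Subgroup G) = ι'.range := rfl
  have hJ : thompsonSubgroupAOf (U : Subgroup G) = (jFun W).map ι' :=
    map_fn (W := jFun) hWp jFun_map hι' hU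
  obtain ⟨-, hJP⟩ := thompson_sup_zpowers hPS hvP
  have heG : e ∈ G := Subgroup.mem_sup_right (Subgroup.mem_zpowers e)
  -- the elements normalizing the Thompson subgroup
  set H := M ⊓ Subgroup.normalizer (sub ι (thompsonSubgroupAOf P) : Set Λ)
  have hJN : thompsonSubgroupAOf P ≤ N := (thompsonAOf_le P).trans hPN
  have hH : ∀ m ∈ H, m * e * m⁻¹ = e := by
    have hDH : D ≤ H := fun l hl => ⟨hDM hl, by
      obtain ⟨t, ht, rfl⟩ := (mem_sub hPN).mp hl
      refine mem_normalizer_of_maps_finite fun x hx => ?_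
      obtain ⟨u, hu, rfl⟩ := (mem_sub hJN).mp hx
      rw [← emb_conj (hPN ht) (hJN hu)]
      exact emb_mem_sub hJN (conj_mem_of_mem_normalizer
        (thompsonAOf_normalized hPS (hPS ht) (Subgroup.le_normalizer ht)) hu)⟩
    have hHsyl : ¬ p ∣ (D.subgroupOf H).index := fun hd => h.syl <| hd.trans
      ⟨_, (Subgroup.relIndex_mul_relIndex D H M hDH inf_le_left).symm⟩
    have hDp : IsPGroup p (D.subgroupOf H) :=
      (((hS.of_injective _ (Subgroup.inclusion_injective inf_le_left :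
        Function.Injective (Subgroup.inclusion (inf_le_left : N ≤ S)))).to_subgroup
          (P.subgroupOf N)).map ι).comap_of_injective _ (Subgroup.subtype_injective H)
    have htop : (Subgroup.centralizer {e}).subgroupOf H = ⊤ := by
      refine NormCent.eq_top_of_coprime_mem (p := p) _ (IsPGroup.toSylow hDp hHsyl) ?_
        fun m hm => ?_
      · intro l hl
        obtain ⟨t, ht, et⟩ := (mem_sub hPN).mp (Subgroup.mem_subgroupOf.mp hl)
        refine Subgroup.mem_subgroupOf.mpr (Subgroup.mem_centralizer_singleton_iff.mpr ?_)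
        rw [← et, ← emb_mul (hPN ht) hvN, ← emb_mul hvN (hPN ht),
          NormCent.centralizerIn_comm hvP ht]
      · obtain ⟨δ, hδ, hrel⟩ := h.act m m.2.1
        have hδp : (orderOf δ).Coprime p := by
          refine Nat.Coprime.coprime_dvd_left (orderOf_dvd_of_pow_eq_one
            (eq_one_of_autFun fun x hx => ?_)) hm
          refine h.apply_eq hXS (hrel.pow _) hx (hXN hx) ?_
          have : (m : Λ) ^ orderOf m = 1 := by
            rw [← Subgroup.coe_pow, pow_orderOf_eq_one, Subgroup.coe_one]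
          rw [this]; group
        have hfix : autFun δ v = v := by
          refine hkey δ hδ hδp fun t ht => ?_
          have htN := hJN ht
          obtain ⟨t', ht', et'⟩ := (mem_sub hJN).mp
            (conj_mem_of_mem_normalizer m.2.2 (emb_mem_sub hJN ht))
          refine ⟨t', ht', fun x hx => ?_, fun htX => h.apply_eq hXS hrel htX (hJN ht') et'⟩
          have hxX : x ∈ X := Subgroup.mem_sup_left hx
          have hn : t * x * t⁻¹ ∈ X := Subgroup.mem_sup_left
            (conj_mem_of_mem_normalizer (thompsonAOf_le P ht).2 hx)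
          refine h.apply_eq hXS hrel hn (N.mul_mem (N.mul_mem (hJN ht') (hXN (autFun_mem δ hxX)))
            (N.inv_mem (hJN ht'))) ?_
          rw [emb_conj (hJN ht') (hXN (autFun_mem δ hxX)), et', hrel x hxX, emb_conj htN (hXN hxX)]
          group
        have h1 := hrel v hvX
        rw [hfix] at h1
        exact Subgroup.mem_subgroupOf.mpr (Subgroup.mem_centralizer_singleton_iff.mpr
          (eq_mul_inv_iff_mul_eq.mp h1).symm)
    intro m hm
    have hmem : (⟨m, hm⟩ : H) ∈ (Subgroup.centralizer {e}).subgroupOf H := by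
      rw [htop]; trivial
    rw [Subgroup.mem_centralizer_singleton_iff.mp (Subgroup.mem_subgroupOf.mp hmem),
      mul_inv_cancel_right]
  intro δ hδ hδp
  obtain ⟨m, hm, hrel⟩ := h.lift δ hδ hδp
  refine h.apply_eq hXS hrel hvX hvN ?_
  obtain ⟨q, hq, eq⟩ := hshift m hm
  have hxU : (⟨e, heG⟩ : G) ∈ (U : Subgroup G) := by
    rw [hU, hrange]
    exact Subgroup.mem_subgroupOf.mpr (Subgroup.mem_sup_right (Subgroup.mem_zpowers e))
  have hmG : m ∈ G := Subgroup.mem_sup_left hm
  have hgU : (⟨m, hmG⟩ : G) * ⟨e, heG⟩ * ⟨m, hmG⟩⁻¹ ∈ (U : Subgroup G) := by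
    rw [hU, hrange]
    refine Subgroup.mem_subgroupOf.mpr ?_
    show m * e * m⁻¹ ∈ D ⊔ K
    rw [eq]
    exact Subgroup.mul_mem _ (Subgroup.mem_sup_right (Subgroup.mem_zpowers e))
      (Subgroup.mem_sup_left (emb_mem_sub hPN (hQP hq)))
  have hxN : (⟨e, heG⟩ : G) ∈ Subgroup.centralizer
      ((Subgroup.normalizer ((thompsonSubgroupAOf (U : Subgroup G)) : Set G) : Subgroup G) : Set G) := by
    refine Subgroup.mem_centralizer_iff.mpr fun n hn => Subtype.ext ?_
    show (n : Λ) * e = e * n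
    have hnG : (n : Λ) ∈ M ⊔ K := n.2
    rw [← SetLike.mem_coe, Subgroup.coe_mul_of_right_le_normalizer_left _ _ hMK] at hnG
    obtain ⟨m', hm', k, ⟨i, hk⟩, en⟩ := hnG
    have hk : e ^ i = k := hk
    have en : m' * k = (n : Λ) := en
    have hke : k * e = e * k := hk ▸ ((Commute.refl e).zpow_left i).eq
    have hm'H : m' ∈ H := ⟨hm', mem_normalizer_of_maps_finite fun x hx => by
      obtain ⟨u, hu, rfl⟩ := (mem_sub hJN).mp hx
      have huW : u ∈ W := Subgroup.mem_sup_left (thompsonAOf_le P hu)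
      have huJ : (⟨u, huW⟩ : W) ∈ jFun W := by
        obtain ⟨w, hw, ew⟩ : u ∈ thompsonSubgroupAOf W := (hJP.ge hu).1
        exact (show w = ⟨u, huW⟩ from Subtype.ext ew) ▸ hw
      have h1 : n * ι' ⟨u, huW⟩ * n⁻¹ ∈ (jFun W).map ι' := by
        rw [← hJ]
        refine conj_mem_of_mem_normalizer hn ?_
        rw [hJ]
        exact ⟨_, huJ, rfl⟩
      obtain ⟨w, hw, ew⟩ := h1
      have ew : emb ι (w : Ω) = (n : Λ) * emb ι u * (n : Λ)⁻¹ := by
        rw [← hι'e, ew]
        show (n : Λ) * ((ι' ⟨u, huW⟩ : G) : Λ) * (n : Λ)⁻¹ = _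
        rw [hι'e]
      have hku : Commute k (emb ι u) := by
        rw [← hk]
        refine Commute.zpow_left ?_ i
        show e * emb ι u = emb ι u * e
        rw [← emb_mul hvN (hJN hu), ← emb_mul (hJN hu) hvN,
          NormCent.centralizerIn_comm hvP (thompsonAOf_le P hu)]
      have hconj : m' * emb ι u * m'⁻¹ = emb ι (w : Ω) := by
        rw [ew, ← en]
        calc m' * emb ι u * m'⁻¹ = m' * (k * emb ι u * k⁻¹) * m'⁻¹ := by
              rw [hku.eq, mul_inv_cancel_right]
          _ = _ := by group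
      rw [hconj]
      refine emb_mem_sub hJN (hJP.le ⟨⟨w, hw, rfl⟩, (h.mem _ (hWN w.2)).mp ?_⟩)
      rw [← hconj]
      exact M.mul_mem (M.mul_mem hm' ((h.mem u (hJN hu)).mpr (thompsonAOf_le P hu)))
        (M.inv_mem hm')⟩
    have hm'e : m' * e = e * m' := mul_inv_eq_iff_eq_mul.mp (hH m' hm'H)
    rw [← en, mul_assoc, hke, ← mul_assoc, hm'e, mul_assoc]
  exact (congrArg Subtype.val
    (Cfsg.Lib.JWeak.weaklyClosed_odd hp U hxU hxN hgU)).symm

/-- An element centralizing `T` can be adjusted inside `T` to be fixed by the lifts at a subgroup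
normal in `T`. -/
theorem Loc.exists_fixed [Finite S] [Finite Λ] [Fact p.Prime] (hS : IsPGroup p S) (hTS : T ≤ S)
    (hQT : Q ≤ T) (hQn : normalizerIn T Q = T) (h : Loc F E p Q ι M) {y : Ω}
    (hy : y ∈ centralizerIn S T) :
    ∃ z ∈ T, y * z ∈ centralizerIn S T ∧
      ∀ δ, IsShift F E Q δ → (orderOf δ).Coprime p → autFun δ (y * z) = y * z := by
  classical
  have hQS : Q ≤ S := hQT.trans hTS
  let X := Q ⊔ centralizerIn S Q
  have hXS : X ≤ S := sup_le hQS inf_le_left
  let N := normalizerIn S X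
  have hXN : X ≤ N := le_normalizerIn hXS
  have hQX : Q ≤ X := le_sup_left
  have hTN : T ≤ N := fun t ht =>
    le_normalizerIn_sup hQS ⟨hTS ht, (hQn.ge ht).2⟩
  have hyC : y ∈ centralizerIn S Q := NormCent.centralizerIn_anti hQT hy
  have hyX : y ∈ X := Subgroup.mem_sup_right hyC
  haveI := finite_of_le hXS
  choose δ hδ hrel using fun m : M => h.act m m.2
  set A := centralizerIn Q Q with hAdef
  haveI := finite_of_le hQS
  haveI : Finite A := finite_of_le (inf_le_left.trans hQS)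
  letI : CommGroup A :=
    { (inferInstance : Group A) with
      mul_comm := fun a b => Subtype.ext (NormCent.centralizerIn_comm a.2 b.2.1) }
  have hm : ∀ m : M, IsMap F X (autFun (δ m)) := fun m => (isMap_autFun hXS).mpr (hδ m).1
  have hσA : ∀ (m : M), ∀ a ∈ A, autFun (δ m) a ∈ A := fun m a ha => by
    refine Fusion.mem_centralizerIn.mpr ⟨(hδ m).map_mem ha.1, fun q hq => ?_⟩
    obtain ⟨α, -, eα⟩ := (hδ m).2.1
    have hq' : autFun α⁻¹ q ∈ Q := autFun_mem _ hq
    have he : autFun (δ m) (autFun α⁻¹ q) = q := by rw [eα _ hq', autFun_inv_apply α hq]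
    rw [← he, ← (hm m).map_conj (hQX ha.1) (hQX hq'), (Fusion.mem_centralizerIn.mp ha).2 _ hq']
  let σ (m : M) : A →* A :=
    { toFun := fun a => ⟨autFun (δ m) a, hσA m a a.2⟩
      map_one' := Subtype.ext ((hm m).map_one)
      map_mul' := fun a b => Subtype.ext ((hm m).map_mul (hQX a.2.1) (hQX b.2.1)) }
  have hdA : ∀ m : M, y⁻¹ * autFun (δ m) y ∈ A := fun m => by
    refine Fusion.mem_centralizerIn.mpr ⟨(hδ m).2.2 y hyC, fun q hq => ?_⟩
    have h1 : autFun (δ m) y ∈ centralizerIn S Q := by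
      have := (hm m).mem_centralizerIn hQX hyX hyC
      rwa [img_eq_of_apply ((hm m).mono hQX) le_rfl fun x hx => (hδ m).map_mem hx] at this
    exact (Fusion.mem_centralizerIn.mp
      (Subgroup.mul_mem _ (Subgroup.inv_mem _ hyC) h1)).2 q hq
  let d (m : M) : A := ⟨y⁻¹ * autFun (δ m) y, hdA m⟩
  have hdy : ∀ m : M, autFun (δ m) y = y * (d m : Ω) := fun m => (mul_inv_cancel_left y _).symm
  have hcoc : ∀ g k : M, d (g * k) = d g * σ g (d k) := fun g k => by
    refine Subtype.ext ?_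
    show y⁻¹ * autFun (δ (g * k)) y = y⁻¹ * autFun (δ g) y * autFun (δ g) (y⁻¹ * autFun (δ k) y)
    rw [h.apply_eq hXS (hrel (g * k)) hyX (hXN (autFun_mem (δ g) (autFun_mem (δ k) hyX)))
      (by rw [hrel g _ (autFun_mem _ hyX), hrel k _ hyX, Subgroup.coe_mul]; group),
      (hm g).map_mul (X.inv_mem hyX) (autFun_mem _ hyX), (hm g).map_inv hyX]
    group
  set B := (sub ι (normalizerIn T Q)).subgroupOf M
  have hPN : normalizerIn T Q ≤ N := inf_le_left.trans hTN
  have hT1 : ∀ t : M, t ∈ B → d t = 1 := fun t ht => by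
    obtain ⟨s, hs, es⟩ := (mem_sub hPN).mp (Subgroup.mem_subgroupOf.mp ht)
    refine Subtype.ext ?_
    show y⁻¹ * autFun (δ t) y = 1
    rw [h.apply_eq hXS (hrel t) hyX (hXN hyX) ?_, inv_mul_cancel]
    rw [← es, ← emb_conj (hPN hs) (hXN hyX)]
    congr 1
    rw [← NormCent.centralizerIn_comm hy hs.1, mul_inv_cancel_right]
  have hright : ∀ g t : M, t ∈ B → d (g * t) = d g := fun g t ht => by
    rw [hcoc, hT1 t ht, map_one, mul_one]
  letI : Fintype (M ⧸ B) := Fintype.ofFinite _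
  set z₀ := ∏ c : M ⧸ B, d c.out
  have hz₀ : ∀ g : M, z₀ = d g ^ Fintype.card (M ⧸ B) * σ g z₀ := fun g => by
    calc z₀ = ∏ c : M ⧸ B, d (g • c).out :=
          (Equiv.prod_comp (MulAction.toPerm g) fun c : M ⧸ B => d c.out).symm
      _ = ∏ c : M ⧸ B, d g * σ g (d c.out) := Finset.prod_congr rfl fun c _ => by
          have e1 : g • c = ((g * c.out : M) : M ⧸ B) := by
            conv_lhs => rw [← QuotientGroup.out_eq' c]
            rfl
          obtain ⟨t, ht⟩ := QuotientGroup.mk_out_eq_mul B (g * c.out)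
          rw [e1, ht, hright _ _ t.2, hcoc]
      _ = _ := by
          rw [Finset.prod_mul_distrib, Finset.prod_const, Finset.card_univ, map_prod]
  have hAp : IsPGroup p A :=
    hS.of_injective _ (Subgroup.inclusion_injective (inf_le_left.trans hQS))
  have hcop : (Nat.card A).Coprime (Fintype.card (M ⧸ B)) := by
    obtain ⟨k, hk⟩ := hAp.exists_card_eq
    rw [hk, ← Nat.card_eq_fintype_card, ← Subgroup.index_eq_card]
    exact Nat.Coprime.pow_left k ((Fact.out : p.Prime).coprime_iff_not_dvd.2 h.syl)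
  set z := (powCoprime hcop).symm z₀
  have hz : z ^ Fintype.card (M ⧸ B) = z₀ := (powCoprime hcop).apply_symm_apply z₀
  have hfix : ∀ g : M, autFun (δ g) (y * (z : Ω)) = y * (z : Ω) := fun g => by
    have h2 : z ^ Fintype.card (M ⧸ B) = (d g * σ g z) ^ Fintype.card (M ⧸ B) := by
      rw [mul_pow, ← map_pow (σ g), hz]
      exact hz₀ g
    have h1 : z = d g * σ g z := (powCoprime hcop).injective h2
    rw [(hm g).map_mul hyX (hQX z.2.1), hdy g, mul_assoc]
    exact congrArg (fun a : A => y * (a : Ω)) h1.symm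
  have hzT : (z : Ω) ∈ T := hQT z.2.1
  have hwX : y * (z : Ω) ∈ X := X.mul_mem hyX (hQX z.2.1)
  refine ⟨z, hzT, Fusion.mem_centralizerIn.mpr ⟨S.mul_mem hy.1 (hTS hzT), fun t ht => ?_⟩,
    fun ε hε hεp => ?_⟩
  · have htM : emb ι t ∈ M := (h.mem t (hTN ht)).mpr (hQn.ge ht)
    have h1 := hrel ⟨_, htM⟩ _ hwX
    rw [hfix, ← emb_conj (hTN ht) (hXN hwX)] at h1
    have h2 := emb_inj h.inj (hXN hwX)
      (N.mul_mem (N.mul_mem (hTN ht) (hXN hwX)) (N.inv_mem (hTN ht))) h1
    have h3 : t * (y * (z : Ω)) = y * (z : Ω) * t := by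
      conv_rhs => rw [h2]
      group
    rw [← h3]
    group
  · obtain ⟨m, hmM, hrelm⟩ := h.lift ε hε hεp
    refine h.apply_eq hXS hrelm hwX (hXN hwX) ?_
    have h1 := hrel ⟨m, hmM⟩ _ hwX
    rwa [hfix] at h1

end Cfsg.Lib.Fusion.SmallCent
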