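import Cfsg.Agent.Fusion.SmallCent.Basic
import Cfsg.Agent.Transfer.Fusion

/-!
A group realizing the lifts of a normal subsystem at a fully normalized centric subgroup.
-/

set_option autoImplicit false
set_option linter.unusedSectionVars false
set_option linter.style.haveILetI false

namespace Cfsg.Lib.Fusion.SmallCent

open Cfsg Cfsg.FusionSystem Cfsg.Lib.Fusion
open scoped commutatorElement

universe u v

variable {Ω : Type u} [Group Ω] {N : Subgroup Ω} {Λ : Type v} [Group Λ] {ι : N →* Λ}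

open scoped Classical in
/-- The extension by one of a homomorphism. -/
noncomputable def emb (ι : N →* Λ) (x : Ω) : Λ := if h : x ∈ N then ι ⟨x, h⟩ else 1

theorem emb_eq {x : Ω} (hx : x ∈ N) : emb ι x = ι ⟨x, hx⟩ := dif_pos hx

theorem emb_mul {x y : Ω} (hx : x ∈ N) (hy : y ∈ N) : emb ι (x * y) = emb ι x * emb ι y := by
  rw [emb_eq hx, emb_eq hy, emb_eq (N.mul_mem hx hy), ← map_mul]
  rfl

theorem emb_inv {x : Ω} (hx : x ∈ N) : emb ι x⁻¹ = (emb ι x)⁻¹ := by
  rw [emb_eq hx, emb_eq (N.inv_mem hx), ← map_inv]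
  rfl

theorem emb_conj {x y : Ω} (hx : x ∈ N) (hy : y ∈ N) :
    emb ι (x * y * x⁻¹) = emb ι x * emb ι y * (emb ι x)⁻¹ := by
  rw [emb_mul (N.mul_mem hx hy) (N.inv_mem hx), emb_mul hx hy, emb_inv hx]

theorem emb_inj (hι : Function.Injective ι) {x y : Ω} (hx : x ∈ N) (hy : y ∈ N)
    (h : emb ι x = emb ι y) : x = y := by
  rw [emb_eq hx, emb_eq hy] at h
  exact congrArg Subtype.val (hι h)

theorem emb_range (x : N) : ι x = emb ι (x : Ω) := (emb_eq x.2).symm

/-- The image of a subgroup. -/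
def sub (ι : N →* Λ) (H : Subgroup Ω) : Subgroup Λ := (H.subgroupOf N).map ι

theorem mem_sub {H : Subgroup Ω} (hH : H ≤ N) {l : Λ} :
    l ∈ sub ι H ↔ ∃ x ∈ H, emb ι x = l := by
  constructor
  · rintro ⟨x, hx, rfl⟩
    exact ⟨x, hx, (emb_range x).symm⟩
  · rintro ⟨x, hx, rfl⟩
    exact ⟨⟨x, hH hx⟩, hx, (emb_eq (hH hx)).symm⟩

theorem emb_mem_sub {H : Subgroup Ω} (hH : H ≤ N) {x : Ω} (hx : x ∈ H) : emb ι x ∈ sub ι H :=
  (mem_sub hH).mpr ⟨x, hx, rfl⟩

theorem card_sub (hι : Function.Injective ι) {H : Subgroup Ω} (hH : H ≤ N) :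
    Nat.card (sub ι H) = Nat.card H := by
  rw [sub, Subgroup.card_map_of_injective hι]
  exact Nat.card_congr (Subgroup.subgroupOfEquivOfLe hH).toEquiv

theorem le_normalizerIn_sup {S Q : Subgroup Ω} [Finite S] (hQ : Q ≤ S) :
    normalizerIn S Q ≤ normalizerIn S (Q ⊔ centralizerIn S Q) := by
  intro s hs
  haveI : Finite (Q ⊔ centralizerIn S Q : Subgroup Ω) :=
    finite_of_le (S := S) (sup_le hQ inf_le_left)
  haveI := finite_of_le hQ
  refine ⟨hs.1, mem_normalizer_of_maps_finite fun x hx => ?_⟩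
  obtain ⟨a, ha, c, hc, rfl⟩ := NormCent.mem_sup_centralizerIn.mp hx
  obtain ⟨hcS, hcc⟩ := Fusion.mem_centralizerIn.mp hc
  rw [show s * (a * c) * s⁻¹ = s * a * s⁻¹ * (s * c * s⁻¹) by group]
  refine Subgroup.mul_mem _ (Subgroup.mem_sup_left (conj_mem_of_mem_normalizer hs.2 ha))
    (Subgroup.mem_sup_right (Fusion.mem_centralizerIn.mpr
      ⟨S.mul_mem (S.mul_mem hs.1 hcS) (S.inv_mem hs.1), fun q hq => ?_⟩))
  have h1 : s⁻¹ * q * s ∈ Q := by
    simpa using conj_mem_of_mem_normalizer (Subgroup.inv_mem _ hs.2) hq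
  calc s * c * s⁻¹ * q * (s * c * s⁻¹)⁻¹ = s * (c * (s⁻¹ * q * s) * c⁻¹) * s⁻¹ := by group
    _ = q := by rw [hcc _ h1]; group

variable {S T : Subgroup Ω} {F : FusionSystem S} {E : FusionSystem T} {p : ℕ} {Q : Subgroup Ω}

/-- An element realizes an automorphism of `Q C_S(Q)`. -/
def Rel (ι : normalizerIn S (Q ⊔ centralizerIn S Q) →* Λ) (l : Λ)
    (δ : MulAut (Q ⊔ centralizerIn S Q : Subgroup Ω)) : Prop :=
  ∀ x ∈ Q ⊔ centralizerIn S Q, emb ι (autFun δ x) = l * emb ι x * l⁻¹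

theorem Rel.mul {ι : normalizerIn S (Q ⊔ centralizerIn S Q) →* Λ} {l l' : Λ}
    {δ δ' : MulAut (Q ⊔ centralizerIn S Q : Subgroup Ω)} (h : Rel ι l δ) (h' : Rel ι l' δ') :
    Rel ι (l * l') (δ * δ') := fun x hx => by
  rw [autFun_mul _ _ hx, h _ (autFun_mem δ' hx), h' x hx]
  group

theorem Rel.pow {ι : normalizerIn S (Q ⊔ centralizerIn S Q) →* Λ} {l : Λ}
    {δ : MulAut (Q ⊔ centralizerIn S Q : Subgroup Ω)} (h : Rel ι l δ) (n : ℕ) :
    Rel ι (l ^ n) (δ ^ n) := by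
  induction n with
  | zero => intro x hx; rw [pow_zero, pow_zero, autFun_one hx]; group
  | succ n ih => rw [pow_succ, pow_succ]; exact ih.mul h

/-- The group of lifts. -/
structure Loc (F : FusionSystem S) (E : FusionSystem T) (p : ℕ) (Q : Subgroup Ω)
    (ι : normalizerIn S (Q ⊔ centralizerIn S Q) →* Λ) (M : Subgroup Λ) : Prop where
  inj : Function.Injective ι
  mem : ∀ s ∈ normalizerIn S (Q ⊔ centralizerIn S Q), emb ι s ∈ M ↔ s ∈ normalizerIn T Q
  syl : ¬ p ∣ (sub ι (normalizerIn T Q)).relIndex M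
  act : ∀ m ∈ M, ∃ δ, IsShift F E Q δ ∧ Rel ι m δ
  lift : ∀ δ, IsShift F E Q δ → (orderOf δ).Coprime p → ∃ m ∈ M, Rel ι m δ

set_option maxHeartbeats 800000 in
/-- The group of lifts exists. -/
theorem exists_loc [Finite S] [Fact p.Prime] (hS : IsPGroup p S) (hE : E.IsNormalIn F p)
    (hQc : E.IsCentric Q) (hQn : F.IsFullyNormalized Q)
    (hXn : F.IsFullyNormalized (Q ⊔ centralizerIn S Q)) :
    ∃ (Λ : Type u) (_ : Group Λ) (_ : Finite Λ)
      (ι : normalizerIn S (Q ⊔ centralizerIn S Q) →* Λ) (M : Subgroup Λ), Loc F E p Q ι M := by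
  obtain ⟨⟨hEs, hF, hinv⟩, -⟩ := id hE
  have hsc := hinv.2.1
  have hTS : T ≤ S := hsc.1
  haveI := finite_of_le hTS
  have hTp : IsPGroup p T := hS.of_injective _ (Subgroup.inclusion_injective hTS)
  have hQT : Q ≤ T := hQc.1
  have hQS := hQn.1
  obtain ⟨hfc, hfa, hrec⟩ := fullyNormalized_props hS hF hQn
  set X := Q ⊔ centralizerIn S Q with hXdef
  have hXS : X ≤ S := sup_le hQS inf_le_left
  haveI := finite_of_le hXS
  haveI := finite_of_le hQS
  set N := normalizerIn S X with hNdef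
  have hNQ : normalizerIn S Q ≤ N := le_normalizerIn_sup hQS
  have hXN : X ≤ N := le_normalizerIn hXS
  have hQX : Q ≤ X := le_sup_left
  have hCX : centralizerIn S Q ≤ X := le_sup_right
  have hTN : normalizerIn T Q ≤ normalizerIn S Q := fun t ht => ⟨hTS ht.1, ht.2⟩
  obtain ⟨Λ, _, _, ι, hinj, hind, hnor, -, hA, hB⟩ :=
    exists_model hS hF (centric_sup_centralizerIn hfc) hXn
  have hm : ∀ {δ : MulAut X}, δ ∈ F.autGroup X → IsMap F X (autFun δ) := fun h =>
    (isMap_autFun hXS).mpr h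
  -- elements inducing lifts
  let L : Subgroup Λ :=
    { carrier := {l | ∃ δ, IsShift F E Q δ ∧ Rel ι l δ}
      one_mem' := ⟨1, isShift_one, fun x hx => by rw [autFun_one hx]; group⟩
      mul_mem' := fun {a b} ha hb =>
        let ⟨δ, h1, h2⟩ := ha
        let ⟨δ', h1', h2'⟩ := hb
        ⟨δ * δ', h1.mul hQS h1', h2.mul h2'⟩
      inv_mem' := fun {a} ha => by
        obtain ⟨δ, h1, h2⟩ := ha
        refine ⟨δ⁻¹, h1.inv hQS, fun x hx => ?_⟩
        have := h2 _ (autFun_mem δ⁻¹ hx)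
        rw [autFun_inv_apply δ hx] at this
        rw [this]
        group }
  set R := sub ι (normalizerIn S Q)
  set D := sub ι (normalizerIn T Q)
  haveI hNfin : Finite N := finite_of_le inf_le_left
  have hNp : IsPGroup p N := hS.of_injective _ (Subgroup.inclusion_injective inf_le_left)
  -- elements of the range in `L`
  have hTL : ∀ t ∈ normalizerIn T Q, emb ι t ∈ L := fun t ht => by
    have htN := hNQ (hTN ht)
    have hn : t ∈ Subgroup.normalizer (X : Set Ω) := htN.2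
    refine ⟨conjAut X t hn, ⟨autInducedBy_le hXS (conjAut_mem_autInducedBy hn (hTS ht.1)),
      ⟨conjAut Q t ht.2, autInducedBy_le hQT (conjAut_mem_autInducedBy ht.2 ht.1), fun x hx => ?_⟩,
      fun c hc => ?_⟩, fun x hx => ?_⟩
    · rw [autFun_apply_mem _ (hQX hx), autFun_apply_mem _ hx, conjAut_apply, conjAut_apply]
    · rw [autFun_apply_mem _ (hCX hc), conjAut_apply]
      refine hQc.2 Q (isConj_refl hQT) (Fusion.mem_centralizerIn.mpr ⟨?_, ?_⟩)
      · rw [show c⁻¹ * (t * c * t⁻¹) = c⁻¹ * t * c * t⁻¹ by group]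
        refine T.mul_mem ?_ (T.inv_mem ht.1)
        simpa using conj_mem_of_mem_normalizer
          (normalizes_of_stronglyClosed hsc (S.inv_mem hc.1)) ht.1
      · intro q hq
        have h1 : t * c * t⁻¹ ∈ centralizerIn S Q := by
          have h2 := (isMap_conj (F := F) le_rfl (hTS ht.1)).mem_centralizerIn hQS hc.1 hc
          rwa [img_eq_of_apply (isMap_conj (F := F) hQS (hTS ht.1)) le_rfl fun x hx =>
            conj_mem_of_mem_normalizer ht.2 hx] at h2
        exact (Fusion.mem_centralizerIn.mp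
          (Subgroup.mul_mem _ (Subgroup.inv_mem _ hc) h1)).2 q hq
    · rw [autFun_apply_mem _ hx, conjAut_apply]
      exact emb_conj htN (hXN hx)
  have hDL : D ≤ L := fun l hl => by
    obtain ⟨t, ht, rfl⟩ := (mem_sub (hTN.trans hNQ)).mp hl
    exact hTL t ht
  have hsplit : ∀ s ∈ N, emb ι s ∈ L → s ∈ normalizerIn S Q ∧
      ∃ t ∈ normalizerIn T Q, t⁻¹ * s ∈ centralizerIn S Q := by
    intro s hs hsL
    obtain ⟨δ, hδ, hrel⟩ := hsL
    have hconj : ∀ x ∈ X, s * x * s⁻¹ = autFun δ x := fun x hx => by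
      refine emb_inj hinj (N.mul_mem (N.mul_mem hs (hXN hx)) (N.inv_mem hs))
        (hXN (autFun_mem δ hx)) ?_
      rw [emb_conj hs (hXN hx), hrel x hx]
    have hsn : s ∈ Subgroup.normalizer (Q : Set Ω) :=
      mem_normalizer_of_maps_finite fun q hq => by
        rw [hconj q (hQX hq)]; exact hδ.map_mem hq
    refine ⟨⟨hs.1, hsn⟩, ?_⟩
    obtain ⟨α, hα, eα⟩ := hδ.2.1
    have hαS : α ∈ autInducedBy S Q := mem_autInducedBy.mpr ⟨s, hs.1, fun x => by
      rw [← autFun_apply, ← eα x x.2, hconj x (hQX x.2)]⟩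
    -- Sylow of the automizer in the subsystem
    haveI := NormCent.finite_mulAut Q
    set G := E.autGroup Q
    obtain ⟨-, P, hP⟩ := (fullyNormalized_props hTp hEs
      (NormCent.fullyNormalized_sub hS hF hinv hQT hQn)).2.1
    have hI : IsPGroup p ((autInducedBy S Q).subgroupOf G) :=
      (isPGroup_autInducedBy hS Q).comap_of_injective _ (Subgroup.subtype_injective G)
    have heq := P.3 hI (hP.le.trans (Subgroup.comap_mono (autInducedBy_mono hTS)))
    have hmem : (⟨α, hα⟩ : G) ∈ (autInducedBy T Q).subgroupOf G := by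
      rw [← hP, ← heq]; exact hαS
    obtain ⟨t, ht, et⟩ := mem_autInducedBy.mp hmem
    refine ⟨t, ⟨ht, mem_normalizer_of_mem_autInducedBy et⟩, Fusion.mem_centralizerIn.mpr
      ⟨S.mul_mem (S.inv_mem (hTS ht)) hs.1, fun q hq => ?_⟩⟩
    have h1 : ((α ⟨q, hq⟩ : Q) : Ω) = t * q * t⁻¹ := et ⟨q, hq⟩
    rw [← autFun_apply α ⟨q, hq⟩, ← eα q hq, ← hconj q (hQX hq)] at h1
    calc t⁻¹ * s * q * (t⁻¹ * s)⁻¹ = t⁻¹ * (s * q * s⁻¹) * t := by group
      _ = q := by rw [h1]; group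
  -- the Sylow subgroup
  set H := R ⊓ L
  have hH : ∀ l, l ∈ H ↔ ∃ s ∈ N, emb ι s = l ∧ l ∈ L := fun l => by
    constructor
    · rintro ⟨hl, hlL⟩
      obtain ⟨s, hs, rfl⟩ := (mem_sub hNQ).mp hl
      exact ⟨s, hNQ hs, rfl, hlL⟩
    · rintro ⟨s, hs, rfl, hlL⟩
      exact ⟨emb_mem_sub hNQ (hsplit s hs hlL).1, hlL⟩
  have hDH : D ≤ H := le_inf (Subgroup.map_mono fun x hx => hTN hx) hDL
  have hHp : IsPGroup p H :=
    ((hNp.to_subgroup _).map ι).to_le inf_le_left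
  have hHcop : ¬ p ∣ H.relIndex L := by
    obtain ⟨V, hV⟩ := (hHp.of_equiv (Subgroup.subgroupOfEquivOfLe
      (inf_le_right : H ≤ L)).symm).exists_le_sylow
    suffices (V : Subgroup L) = H.subgroupOf L by
      rw [Subgroup.relIndex, ← this]; exact V.not_dvd_index
    refine (Subgroup.eq_of_le_of_card_ge hV ?_).symm
    set U : Sylow p Λ :=
      IsPGroup.toSylow (P := ι.range) (hNp.of_surjective _ (MonoidHom.rangeRestrict_surjective _))
        hind
    obtain ⟨U', hU'⟩ := (V.2.map L.subtype).exists_le_sylow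
    obtain ⟨a, ha⟩ := MulAction.exists_smul_eq Λ U' U
    have haV : ∀ w : L, w ∈ (V : Subgroup L) → a * (w : Λ) * a⁻¹ ∈ ι.range := fun w hw => by
      have h : a * (w : Λ) * a⁻¹ ∈ ((a • U' : Sylow p Λ) : Subgroup Λ) :=
        ⟨w, hU' ⟨w, hw, rfl⟩, rfl⟩
      rw [ha] at h
      exact h
    obtain ⟨f, hf, hfX, hfe⟩ := hB X le_rfl hXN a fun x hx =>
      Subgroup.map_le_range ι _ (hnor.conj_mem _ ⟨x, hx, rfl⟩ a)
    have hfemb : ∀ x ∈ X, emb ι (f x) = a * emb ι x * a⁻¹ := fun x hx => by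
      obtain ⟨x', -, hx'⟩ := hnor.conj_mem _ (⟨⟨x, hXN hx⟩, hx, rfl⟩ :
        ι ⟨x, hXN hx⟩ ∈ (X.subgroupOf N).map ι) a
      rw [show f x = (x' : Ω) from (hfe ⟨x, hXN hx⟩ hx x' hx').symm, ← emb_range, hx',
        emb_eq (hXN hx)]
    set Q'' := img Q f
    have hfQ : IsMap F Q f := hf.mono hQX
    have hconj : F.IsConj Q'' Q := isConj_symm (isConj_iff.mpr ⟨f, hfQ, rfl⟩)
    obtain ⟨k₀, hk₀, hk₀i⟩ := isConj_iff.mp hconj
    obtain ⟨-, -, h, hh, hhi, -, hhN⟩ := exists_map_normalizer hS hfa hrec hk₀ hk₀i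
    have hXQ'' : X ≤ normalizerIn S Q'' := by
      refine le_of_eq_of_le hfX.symm ?_
      rw [show img X f = img Q f ⊔ img (centralizerIn S Q) f from hf.img_sup]
      exact sup_le (le_normalizerIn hfQ.img_le) (IsMap.img_le_iff.mpr fun c hc =>
        centralizerIn_le_normalizerIn _ (hf.mem_centralizerIn hQX (hCX hc) hc))
    have hXe : img Q f ⊔ img (centralizerIn S Q) f = X := hf.img_sup.symm.trans hfX
    have hhX : ∀ x ∈ X, h x ∈ X := by
      have : img (img Q f ⊔ img (centralizerIn S Q) f) h ≤ X := by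
        rw [(hh.mono (hXe.le.trans hXQ'')).img_sup, hhi]
        refine sup_le hQX (IsMap.img_le_iff.mpr fun y hy => ?_)
        obtain ⟨c, hc, rfl⟩ := (hf.mono hCX).mem_img.mp hy
        have h1 := hf.mem_centralizerIn hQX (hCX hc) hc
        have h2 := hh.mem_centralizerIn (le_normalizerIn hfQ.img_le)
          (centralizerIn_le_normalizerIn _ h1) h1
        rw [hhi] at h2
        exact hCX h2
      exact fun x hx => this (IsMap.apply_mem_img (hXe.ge hx))
    have hhXi : img X h = X := img_eq_of_apply (hh.mono hXQ'') le_rfl hhX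
    obtain ⟨b, hb⟩ := hA (normalizerIn S Q'' ⊓ N) (le_inf hXQ'' hXN) inf_le_right h
      (hh.mono inf_le_left) hhXi
    set μ := b * a
    obtain ⟨ν, hν, eν⟩ := (hf.comp (hh.mono hXQ'') fun x hx => hfX.le (IsMap.apply_mem_img hx))
      |>.exists_aut (by rw [img_comp hf (hfX.symm ▸ hh.mono hXQ''), hfX, hhXi])
    have hμ : Rel ι μ ν := fun x hx => by
      have hfx : f x ∈ X := hfX.le (IsMap.apply_mem_img hx)
      rw [eν x hx]
      show emb ι (h (f x)) = _
      rw [emb_eq (hXN (hhX _ hfx)), hb ⟨f x, hXN hfx⟩ ⟨hXQ'' hfx, hXN hfx⟩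
        ⟨h (f x), hXN (hhX _ hfx)⟩ rfl, emb_range, hfemb x hx]
      simp only [μ]
      group
    have hνm := hm hν
    have hνQ : img Q (autFun ν) = Q := by
      rw [img_congr (fun x hx => eν x (hQX hx)),
        img_comp hfQ (hh.mono (le_normalizerIn hfQ.img_le)), hhi]
    have hνQm : IsMap F Q (autFun ν) := hνm.mono hQX
    have hνC : ∀ c ∈ centralizerIn S Q, autFun ν c ∈ centralizerIn S Q := fun c hc => by
      have h1 := hνm.mem_centralizerIn hQX (hCX hc) hc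
      rwa [hνQ] at h1
    have hμL : ∀ l ∈ L, μ * l * μ⁻¹ ∈ L := by
      rintro l ⟨δ, ⟨hδF, ⟨α, hα, eα⟩, hδc⟩, hl⟩
      refine ⟨ν * δ * ν⁻¹, ⟨mul_mem (mul_mem hν hδF) (Subgroup.inv_mem _ hν),
        ⟨_, NormCent.congr_mem_sub hinv hQT hνQm hνQ hα, fun x hx => ?_⟩, fun c hc => ?_⟩,
        fun x hx => ?_⟩
      · obtain ⟨q, hq, rfl⟩ := hνQm.mem_img.mp (hνQ.ge hx)
        rw [congr_equiv_spec hνQm hνQ α hq, autFun_mul _ _ (autFun_mem ν (hQX hq)),
          autFun_mul _ _ (autFun_mem _ (autFun_mem ν (hQX hq))),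
          autFun_inv_apply' ν (hQX hq), eα q hq]
      · obtain ⟨d, hd, rfl⟩ : ∃ d ∈ centralizerIn S Q, autFun ν d = c :=
          exists_preimage_of_card_le hνm hCX inf_le_left hνC le_rfl hc
        have hdX := hCX hd
        rw [autFun_mul _ _ (autFun_mem ν hdX), autFun_mul _ _ (autFun_mem _ (autFun_mem ν hdX)),
          autFun_inv_apply' ν hdX, ← hνm.map_inv hdX,
          ← hνm.map_mul (X.inv_mem hdX) (autFun_mem δ hdX)]
        exact hνQ.le (IsMap.apply_mem_img (hδc d hd))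
      · obtain ⟨d, hd, rfl⟩ : ∃ d ∈ X, autFun ν d = x := ⟨autFun ν⁻¹ x, autFun_mem _ hx,
          autFun_inv_apply ν hx⟩
        rw [autFun_mul _ _ (autFun_mem ν hd), autFun_mul _ _ (autFun_mem _ (autFun_mem ν hd)),
          autFun_inv_apply' ν hd, hμ _ (autFun_mem δ hd), hl d hd, hμ d hd]
        group
    have hVH : ∀ w : L, w ∈ (V : Subgroup L) → μ * (w : Λ) * μ⁻¹ ∈ H := by
      intro w hw
      obtain ⟨s, hs⟩ := haV w hw
      have hsn : (s : Ω) ∈ Subgroup.normalizer (Q'' : Set Ω) := by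
        haveI := finite_of_le hfQ.img_le
        refine mem_normalizer_of_maps_finite fun y hy => ?_
        obtain ⟨q, hq, rfl⟩ := hfQ.mem_img.mp hy
        obtain ⟨δ, hδ, hrel⟩ := w.2
        have hfq : f q ∈ N := hXN (hfX.le (IsMap.apply_mem_img (hQX hq)))
        have h1 : (s : Ω) * f q * (s : Ω)⁻¹ = f (autFun δ q) := by
          refine emb_inj hinj (N.mul_mem (N.mul_mem s.2 hfq) (N.inv_mem s.2))
            (hXN (hfX.le (IsMap.apply_mem_img (autFun_mem δ (hQX hq))))) ?_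
          rw [emb_conj s.2 hfq, ← emb_range, hs, hfemb q (hQX hq), hfemb _ (autFun_mem δ (hQX hq)),
            hrel q (hQX hq)]
          group
        rw [h1]
        exact IsMap.apply_mem_img (hδ.map_mem hq)
      have hsP : (s : Ω) ∈ normalizerIn S Q'' ⊓ N := ⟨⟨s.2.1, hsn⟩, s.2⟩
      have h1 := hb s hsP ⟨h s, hNQ (hhN _ hsP.1)⟩ rfl
      refine (hH _).mpr ⟨h s, hNQ (hhN _ hsP.1), ?_, hμL _ w.2⟩
      rw [emb_eq (hNQ (hhN _ hsP.1)), h1, hs]
      simp only [μ]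
      group
    refine Nat.card_le_card_of_injective
      (fun w : (V : Subgroup L) =>
        (⟨⟨_, (hVH w w.2).2⟩, Subgroup.mem_subgroupOf.mpr (hVH w w.2)⟩ : H.subgroupOf L))
      fun w w' e => Subtype.ext (Subtype.ext (mul_left_cancel (mul_right_cancel
        (congrArg (fun z : H.subgroupOf L => ((z : L) : Λ)) e))))
  -- the focal subgroup
  have hfoc : Subgroup.focalSubgroup (H.subgroupOf L) ≤ D.subgroupOf L := by
    rw [Subgroup.focalSubgroup_def, Subgroup.closure_le]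
    rintro _ ⟨hc, x, hx, w, rfl⟩
    obtain ⟨s, hs, hsx, -⟩ := (hH _).mp hx
    have hsx : emb ι s = (x : Λ) := hsx
    obtain ⟨-, t, ht, hcm⟩ := hsplit s hs (hsx ▸ x.2)
    set c := t⁻¹ * s
    have hcX := hCX hcm
    have htN := hNQ (hTN ht)
    obtain ⟨δ, hδ, hrel⟩ := w.2
    have hq := hδ.map_mem (x := c⁻¹ * autFun δ c) (hδ.2.2 c hcm)
    set q := c⁻¹ * autFun δ c with hqdef
    have hqQ : q ∈ Q := hδ.2.2 c hcm
    -- the conjugate lies in the Sylow subgroup
    have hy : (w : Λ) * (x : Λ) * (w : Λ)⁻¹ ∈ H := by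
      have h1 := (H.subgroupOf L).mul_mem ((H.subgroupOf L).inv_mem hc) hx
      have h2 : (⁅x, w⁆ : L)⁻¹ * x = w * x * w⁻¹ := by rw [commutatorElement_def]; group
      rw [h2] at h1
      simpa using Subgroup.mem_subgroupOf.mp h1
    have hexp : (w : Λ) * (x : Λ) * (w : Λ)⁻¹ =
        ((w : Λ) * emb ι t * (w : Λ)⁻¹) * (emb ι c * emb ι q) := by
      rw [← hsx, show emb ι s = emb ι t * emb ι c by
        rw [← emb_mul htN (hXN hcX)]; simp only [c]; congr 1; group,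
        ← emb_mul (hXN hcX) (hXN (hQX hqQ)), show c * q = autFun δ c by simp only [q]; group,
        hrel c hcX]
      group
    obtain ⟨s₂, hs₂, hs₂e, -⟩ := (hH _).mp hy
    set s' := s₂ * (c * q)⁻¹
    have hs' : s' ∈ N := N.mul_mem hs₂ (N.inv_mem (N.mul_mem (hXN hcX) (hXN (hQX hqQ))))
    have hs'e : emb ι s' = (w : Λ) * emb ι t * (w : Λ)⁻¹ := by
      simp only [s']
      rw [emb_mul hs₂ (N.inv_mem (N.mul_mem (hXN hcX) (hXN (hQX hqQ)))),
        emb_inv (N.mul_mem (hXN hcX) (hXN (hQX hqQ))), emb_mul (hXN hcX) (hXN (hQX hqQ)), hs₂e,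
        hexp]
      group
    have hs'T : s' ∈ normalizerIn T Q := by
      refine ⟨?_, (hsplit s' hs' (hs'e ▸ L.mul_mem (L.mul_mem w.2 (hTL t ht)) (L.inv_mem w.2))).1.2⟩
      set P₁ := X ⊔ Subgroup.zpowers t
      have hP₁ : ∀ z : N, (z : Ω) ∈ P₁ → (w : Λ) * ι z * (w : Λ)⁻¹ ∈ ι.range := by
        intro z hz
        have hsub : P₁.subgroupOf N ≤ ι.range.comap ((MulAut.conj (w : Λ)).toMonoidHom.comp ι) := by
          rw [Subgroup.subgroupOf_sup hXN (Subgroup.zpowers_le.mpr htN)]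
          refine sup_le (fun u hu => Subgroup.map_le_range ι _ (hnor.conj_mem _ ⟨u, hu, rfl⟩ _))
            fun u hu => ?_
          obtain ⟨i, hi⟩ := Subgroup.mem_zpowers_iff.mp hu
          have : u = (⟨t, htN⟩ : N) ^ i := Subtype.ext (by simpa using hi.symm)
          rw [this]
          refine Subgroup.zpow_mem _ ?_ i
          show (w : Λ) * ι ⟨t, htN⟩ * (w : Λ)⁻¹ ∈ ι.range
          exact ⟨⟨s', hs'⟩, by rw [emb_range, hs'e, emb_eq htN]⟩
        exact hsub hz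
      obtain ⟨φ, hφ, -, hφe⟩ := hB P₁ le_sup_left (sup_le hXN (Subgroup.zpowers_le.mpr htN)) w hP₁
      have htP : t ∈ P₁ := Subgroup.mem_sup_right (Subgroup.mem_zpowers t)
      have := hφe ⟨t, htN⟩ htP ⟨s', hs'⟩ (by rw [emb_range, hs'e, emb_eq htN])
      rw [show s' = φ t from this]
      exact stronglyClosed_apply hsc hφ htP ht.1
    refine Subgroup.mem_subgroupOf.mpr ?_
    have hval : ((⁅x, w⁆ : L) : Λ) = (x : Λ) * ((w : Λ) * (x : Λ) * (w : Λ)⁻¹)⁻¹ := by
      rw [commutatorElement_def]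
      push_cast
      group
    rw [hval, hexp, ← hs'e, ← hsx, ← emb_mul (hXN hcX) (hXN (hQX hqQ)),
      ← emb_mul hs' (N.mul_mem (hXN hcX) (hXN (hQX hqQ))),
      ← emb_inv (N.mul_mem hs' (N.mul_mem (hXN hcX) (hXN (hQX hqQ)))),
      ← emb_mul hs (N.inv_mem (N.mul_mem hs' (N.mul_mem (hXN hcX) (hXN (hQX hqQ)))))]
    refine emb_mem_sub (hTN.trans hNQ) ?_
    have he : s * (s' * (c * q))⁻¹ = t * (c * q⁻¹ * c⁻¹) * s'⁻¹ := by
      simp only [c]
      group
    rw [he]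
    refine Subgroup.mul_mem _ (Subgroup.mul_mem _ ht ?_) (Subgroup.inv_mem _ hs'T)
    rw [(Fusion.mem_centralizerIn.mp hcm).2 _ (Q.inv_mem hqQ)]
    exact le_normalizerIn hQT (Q.inv_mem hqQ)
  -- the normal subgroup of index a power of the prime
  haveI : Finite L := inferInstance
  obtain ⟨k, hk⟩ := hHp.exists_card_eq
  have hdvd : (D.subgroupOf L).relIndex (H.subgroupOf L) ∣ p ^ k := by
    rw [Subgroup.relIndex_subgroupOf inf_le_right, ← hk]
    exact Subgroup.relIndex_dvd_card ..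
  obtain ⟨i, -, hi⟩ := (Nat.dvd_prime_pow (Fact.out : p.Prime)).1 hdvd
  obtain ⟨M₀, hM₀, hM₀H, hM₀top, -, hidx⟩ := Cfsg.Lib.Transfer.exists_normal_inf_eq
    (H.subgroupOf L) (D.subgroupOf L) (Subgroup.comap_mono hDH) hfoc
    (hi ▸ Nat.Coprime.pow_right i ((Fact.out : p.Prime).coprime_iff_not_dvd.2 hHcop).symm)
  haveI := hM₀
  set M := M₀.map L.subtype
  have hML : M ≤ L := Subgroup.map_subtype_le _
  refine ⟨Λ, inferInstance, inferInstance, ι, M, ⟨hinj, fun s hs => ⟨?_, fun hsT => ?_⟩, ?_,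
    fun m hm => hML hm, fun δ hδ hδp => ?_⟩⟩
  · rintro ⟨l, hl, e⟩
    have e : (l : Λ) = emb ι s := e
    have hlH : (l : Λ) ∈ H := (hH _).mpr ⟨s, hs, e.symm, l.2⟩
    have hlD : l ∈ D.subgroupOf L := hM₀H.le ⟨hl, hlH⟩
    obtain ⟨t, ht, ht'⟩ := (mem_sub (hTN.trans hNQ)).mp (Subgroup.mem_subgroupOf.mp hlD)
    rwa [← emb_inj hinj (hNQ (hTN ht)) hs (ht'.trans e)]
  · exact ⟨⟨emb ι s, hTL s hsT⟩,
      (hM₀H.ge (Subgroup.mem_subgroupOf.mpr (emb_mem_sub (hTN.trans hNQ) hsT))).1, rfl⟩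
  · have hDM₀ : D.subgroupOf L ≤ M₀ := hM₀H.ge.trans inf_le_left
    have hDM : D = (D.subgroupOf L).map L.subtype := by
      rw [Subgroup.subgroupOf_map_subtype, inf_eq_left.mpr hDL]
    rw [show sub ι (normalizerIn T Q) = (D.subgroupOf L).map L.subtype from hDM,
      Subgroup.relIndex_map_map_of_injective _ _ L.subtype_injective]
    have h1 := Subgroup.relIndex_mul_relIndex _ _ _ hDM₀ (le_top : M₀ ≤ ⊤)
    have h2 : (D.subgroupOf L).relIndex (H.subgroupOf L) * (H.subgroupOf L).relIndex ⊤ =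
        (D.subgroupOf L).relIndex ⊤ :=
      Subgroup.relIndex_mul_relIndex _ _ _ (Subgroup.comap_mono hDH) le_top
    rw [Subgroup.relIndex_top_right, Subgroup.relIndex_top_right] at h1 h2
    rw [hidx, ← h2, mul_comm] at h1
    have h3 : (H.subgroupOf L).index = (D.subgroupOf L).relIndex M₀ :=
      (Nat.eq_of_mul_eq_mul_left (hi ▸ pow_pos (Fact.out : p.Prime).pos i) h1).symm
    rw [← h3]
    exact hHcop
  · obtain ⟨g, hg⟩ := hA X le_rfl hXN (autFun δ) (hm hδ.1) (img_autFun δ)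
    have hrel : Rel ι g δ := fun x hx => by
      rw [emb_eq (hXN hx), emb_eq (hXN (autFun_mem δ hx))]
      exact hg ⟨x, hXN hx⟩ hx ⟨_, hXN (autFun_mem δ hx)⟩ rfl
    obtain ⟨e, he, he1⟩ := NormCent.exists_coprime_power g hδp
    have hδe : δ ^ e = δ := by
      conv_rhs => rw [← pow_one δ]
      exact pow_eq_pow_iff_modEq.mpr he1
    have hgL : g ^ e ∈ L := ⟨δ, hδ, hδe ▸ hrel.pow e⟩
    refine ⟨g ^ e, ⟨⟨_, hgL⟩, ?_, rfl⟩, hδe ▸ hrel.pow e⟩
    refine Cfsg.Lib.Transfer.mem_of_isPGroup_quotient_of_coprime M₀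
      (Cfsg.Lib.Transfer.isPGroup_quotient_of_index M₀ (hidx.trans hi)) ?_
    rwa [← Subgroup.orderOf_coe]

end Cfsg.Lib.Fusion.SmallCent
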