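import Cfsg.Agent.Fusion.SmallCent.Fix
import Cfsg.Agent.Fusion.NormalCentralizer.Commutator

/-!
In odd characteristic the centralizer in `S` of `T` is adjusted inside `T` to centralize the normal
subsystem.
-/

set_option autoImplicit false
set_option linter.unusedSectionVars false
set_option linter.style.haveILetI false

namespace Cfsg.Lib.Fusion.SmallCent

open Cfsg Cfsg.FusionSystem Cfsg.Lib.Fusion

universe u

variable {Ω : Type u} [Group Ω] {S T : Subgroup Ω} {F : FusionSystem S} {E : FusionSystem T}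
  {p : ℕ} {w : Ω}

/-- The map extends to one fixing `w`. -/
def Ext (F : FusionSystem S) (w : Ω) (P : Subgroup Ω) (f : Ω → Ω) : Prop :=
  ∃ g, IsMap F (P ⊔ Subgroup.zpowers w) g ∧ (∀ x ∈ P, g x = f x) ∧
    ∀ y ∈ Subgroup.zpowers w, g y = y

/-- All automorphisms in the subsystem extend fixing `w`. -/
def AllExt (F : FusionSystem S) (E : FusionSystem T) (w : Ω) (R : Subgroup Ω) : Prop :=
  ∀ α ∈ E.autGroup R, Ext F w R (autFun α)

variable [Finite S] [Fact p.Prime]

theorem isMapClass_ext (hTS : T ≤ S) (hw : w ∈ centralizerIn S T) : IsMapClass E (Ext F w) :=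
  NormCent.isMapClass_fixing hTS (Subgroup.zpowers_le.mpr hw)

theorem allExt_of_coprime (hS : IsPGroup p S) (hE : E.IsNormalIn F p)
    (hw : w ∈ centralizerIn S T) {Q : Subgroup Ω} (hQ : E.IsFullyNormalized Q)
    (h : ∀ α ∈ E.autGroup Q, (orderOf α).Coprime p → Ext F w Q (autFun α)) : AllExt F E w Q := by
  obtain ⟨hEs, hF, hinv⟩ := hE.1
  have hTS : T ≤ S := hinv.2.1.1
  haveI := finite_of_le hTS
  haveI := finite_of_le hQ.1
  have hTp : IsPGroup p T := hS.of_injective _ (Subgroup.inclusion_injective hTS)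
  have hclass := isMapClass_ext (F := F) (E := E) hTS hw
  intro α hα
  set G := E.autGroup Q
  haveI := NormCent.finite_mulAut Q
  obtain ⟨-, P, hP⟩ := (fullyNormalized_props hTp hEs hQ).2.1
  have htop : (goodAut E _ hclass Q hQ.1).subgroupOf G = ⊤ := by
    refine NormCent.eq_top_of_coprime_mem (p := p) _ P ?_ fun g hg =>
      ⟨g.2, h (g : MulAut Q) g.2 (by rwa [Subgroup.orderOf_coe])⟩
    rw [hP]
    exact Subgroup.comap_mono (autInducedBy_le_good hclass hQ.1)
  have hmem : (⟨α, hα⟩ : G) ∈ (goodAut E _ hclass Q hQ.1).subgroupOf G := by rw [htop]; trivial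
  exact hmem.2

theorem adm_of_allExt (hS : IsPGroup p S) (hE : E.IsNormalIn F p) (hw : w ∈ centralizerIn S T)
    (h : ∀ Q, E.IsCentric Q → E.IsFullyNormalized Q → AllExt F E w Q) :
    NormCent.Adm F E (Subgroup.zpowers w) := by
  obtain ⟨hEs, hF, hinv⟩ := hE.1
  have hTS : T ≤ S := hinv.2.1.1
  haveI := finite_of_le hTS
  have hTp : IsPGroup p T := hS.of_injective _ (Subgroup.inclusion_injective hTS)
  have hclass := isMapClass_ext (F := F) (E := E) hTS hw
  refine ⟨Subgroup.zpowers_le.mpr hw, fun P f hf => alperin_induction hTp hEs hclass (fun g hg => ?_)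
    (fun Q _ hQn hQc _ α hα => h Q hQc hQn α hα) hf⟩
  obtain ⟨α, hα, eα⟩ := hg.exists_aut (img_eq_of_apply hg le_rfl fun x hx => hg.mem_S hx)
  exact hclass.congr T _ g ((isMap_autFun le_rfl).mpr hα) (fun x hx => (eα x hx).symm)
    (h T (CharSub.centric_top hinv) (fullyNormalized_of_normalized le_rfl Subgroup.le_normalizer)
      α hα)

/-- Extensions are transported along an extendable map. -/
theorem allExt_transport (hTS : T ≤ S) (hw : w ∈ centralizerIn S T) {R R' : Subgroup Ω}
    {h : Ω → Ω} (hh : IsMap E R h) (hi : img R h = R') (hgood : Ext F w R h)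
    (h' : AllExt F E w R') : AllExt F E w R := by
  haveI := finite_of_le hTS
  have hclass := isMapClass_ext (F := F) (E := E) hTS hw
  intro α hα
  subst hi
  obtain ⟨k, hk, -, hkl, -⟩ := hh.exists_inv
  have hRT : R ≤ T := hh.le
  have hR'T : img R h ≤ T := hh.img_le
  set β := MulAut.congr (hh.equiv rfl) α
  have hβ : β ∈ E.autGroup (img R h) := congr_mem_autGroup hh rfl hα
  have hβm : IsMap E (img R h) (autFun β) := (isMap_autFun hR'T).mpr hβ
  have hm : ∀ x ∈ R, autFun β (h x) ∈ img R h := fun x hx =>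
    autFun_mem β (IsMap.apply_mem_img hx)
  have hcomp := hh.comp hβm fun x hx => IsMap.apply_mem_img hx
  refine hclass.congr R _ _ (hcomp.comp hk hm) (fun x hx => ?_)
    (hclass.comp R _ _ k hcomp hk hm (hclass.comp R _ h _ hh hβm
      (fun x hx => IsMap.apply_mem_img hx) hgood (h' β hβ)) (hclass.inv R h k hh hk hkl hgood))
  show autFun α x = k (autFun β (h x))
  rw [congr_equiv_spec hh rfl α hx, hkl _ (autFun_mem α hx)]

/-- A subgroup containing the centralizer of its Thompson subgroup inside the normalizer. -/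
theorem centralizerIn_le_of_normalizer (hTp : IsPGroup p T) [Finite T] {Q J : Subgroup Ω}
    (hQT : Q ≤ T) (hJQ : J ≤ Q) (hn : Q ≤ Subgroup.normalizer (J : Set Ω))
    (hC : centralizerIn (normalizerIn T Q) J ≤ J) : centralizerIn T J ≤ J := by
  have hCQ : centralizerIn T J ≤ Q := by
    set C := centralizerIn T J
    have hnC : Q ≤ Subgroup.normalizer (C : Set Ω) := by
      refine NormCent.le_normalizer_of_conj fun a ha c hc => ?_
      obtain ⟨hcT, hcc⟩ := Fusion.mem_centralizerIn.mp hc
      refine Fusion.mem_centralizerIn.mpr ⟨T.mul_mem (T.mul_mem (hQT ha) hcT) (T.inv_mem (hQT ha)),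
        fun x hx => ?_⟩
      have h1 : a⁻¹ * x * a ∈ J := by
        simpa using conj_mem_of_mem_normalizer (Subgroup.inv_mem _ (hn ha)) hx
      calc a * c * a⁻¹ * x * (a * c * a⁻¹)⁻¹ = a * (c * (a⁻¹ * x * a) * c⁻¹) * a⁻¹ := by group
        _ = x := by rw [hcc _ h1]; group
    have hG : Q ⊔ C ≤ T := sup_le hQT inf_le_left
    rcases (le_sup_left : Q ≤ Q ⊔ C).eq_or_lt with h | h
    · exact le_sup_right.trans h.ge
    · obtain ⟨g, ⟨hg, hgn⟩, hgQ⟩ := SetLike.exists_of_lt (lt_inf_normalizer hTp h hG)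
      have hg : g ∈ ((Q ⊔ C : Subgroup Ω) : Set Ω) := hg
      rw [Subgroup.coe_mul_of_left_le_normalizer_right _ _ hnC] at hg
      obtain ⟨q, hq, c, hc, rfl⟩ := hg
      refine absurd (Q.mul_mem hq (hJQ (hC ?_))) hgQ
      refine Fusion.mem_centralizerIn.mpr ⟨⟨hc.1, ?_⟩, (Fusion.mem_centralizerIn.mp hc).2⟩
      have : c = q⁻¹ * (q * c) := by group
      rw [this]
      exact Subgroup.mul_mem _ (Subgroup.inv_mem _ (Subgroup.le_normalizer hq)) hgn
  intro c hc
  exact hC (Fusion.mem_centralizerIn.mpr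
    ⟨⟨hc.1, Subgroup.le_normalizer (hCQ hc)⟩, (Fusion.mem_centralizerIn.mp hc).2⟩)

variable {Q : Subgroup Ω}

/-- The induction hypothesis: larger subgroups are done. -/
def Above (F : FusionSystem S) (E : FusionSystem T) (w : Ω) (Q : Subgroup Ω) : Prop :=
  ∀ R, E.IsCentric R → E.IsFullyNormalized R →
    Nat.card (normalizerIn T Q) ≤ Nat.card (normalizerIn T R) →
    (Nat.card (normalizerIn T Q) < Nat.card (normalizerIn T R) ∨ Nat.card Q < Nat.card R) →
    AllExt F E w R

/-- Maps on large subgroups extend. -/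
theorem ext_of_large (hS : IsPGroup p S) (hE : E.IsNormalIn F p) (hw : w ∈ centralizerIn S T)
    (hQT : Q < T) (hab : Above F E w Q) {H : Subgroup Ω} {f : Ω → Ω} (hf : IsMap E H f)
    (hcard : Nat.card (normalizerIn T Q) ≤ Nat.card H) : Ext F w H f := by
  obtain ⟨hEs, hF, hinv⟩ := hE.1
  have hTS : T ≤ S := hinv.2.1.1
  haveI := finite_of_le hTS
  have hTp : IsPGroup p T := hS.of_injective _ (Subgroup.inclusion_injective hTS)
  have hclass := isMapClass_ext (F := F) (E := E) hTS hw
  have hQP : Nat.card Q < Nat.card (normalizerIn T Q) := by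
    haveI : Finite (normalizerIn T Q) := finite_of_le inf_le_left
    have h := lt_normalizerIn hTp hQT
    exact lt_of_le_of_ne (Subgroup.card_le_of_le h.le) fun e =>
      h.ne (Subgroup.eq_of_le_of_card_ge h.le e.ge)
  set n := Nat.card (normalizerIn T Q)
  have hclass' : IsMapClass E (fun P f => n ≤ Nat.card P → Ext F w P f) :=
    { conj := fun P g hP hg _ => hclass.conj P g hP hg
      congr := fun P f f' hf e h hn => hclass.congr P f f' hf e (h hn)
      mono := fun P R f hf hR h hn => by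
        haveI := finite_of_le hf.le
        exact hclass.mono P R f hf hR (h (hn.trans (Subgroup.card_le_of_le hR)))
      comp := fun P R f g hf hg hm h h' hn => hclass.comp P R f g hf hg hm (h hn) (h' (by
        haveI := finite_of_le hg.le
        exact hn.trans (card_le_of_isMap hf le_rfl hg.le hm)))
      inv := fun P f g hf hg hl h hn => hclass.inv P f g hf hg hl (h (hn.trans hf.card_img.le)) }
  have hsite : ∀ R : Subgroup Ω, E.IsCentric R → E.IsFullyNormalized R → ∀ α ∈ E.autGroup R,
      n ≤ Nat.card R → Ext F w R (autFun α) := fun R hRc hRn α hα hn => by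
    haveI : Finite (normalizerIn T R) := finite_of_le inf_le_left
    exact hab R hRc hRn (hn.trans (Subgroup.card_le_of_le (le_normalizerIn hRn.1)))
      (Or.inr (hQP.trans_le hn)) α hα
  refine alperin_induction hTp hEs hclass' (fun g hg hn => ?_)
    (fun R _ hRn hRc _ α hα => hsite R hRc hRn α hα) hf hcard
  obtain ⟨α, hα, eα⟩ := hg.exists_aut (img_eq_of_apply hg le_rfl fun x hx => hg.mem_S hx)
  exact hclass.congr T _ g ((isMap_autFun le_rfl).mpr hα) (fun x hx => (eα x hx).symm)
    (hsite T (CharSub.centric_top hinv)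
      (fullyNormalized_of_normalized le_rfl Subgroup.le_normalizer) α hα hn)

/-- A subgroup with a large normalizer is done. -/
theorem allExt_of_large (hS : IsPGroup p S) (hE : E.IsNormalIn F p) (hw : w ∈ centralizerIn S T)
    (hQT : Q < T) (hab : Above F E w Q) {R R' : Subgroup Ω} (hR' : E.IsFullyNormalized R')
    {h : Ω → Ω} (hh : IsMap E (normalizerIn T R) h) (hi : img R h = R') (hRT : R ≤ T)
    (hle : Nat.card (normalizerIn T Q) ≤ Nat.card (normalizerIn T R))
    (hR'x : AllExt F E w R') : AllExt F E w R := by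
  have hTS : T ≤ S := hE.1.2.2.2.1.1
  haveI := finite_of_le hTS
  have hRN : R ≤ normalizerIn T R := le_normalizerIn hRT
  exact allExt_transport (F := F) hTS hw (hh.mono hRN) hi
    ((isMapClass_ext (F := F) (E := E) hTS hw).mono _ _ _ hh hRN
      (ext_of_large hS hE hw hQT hab hh hle)) hR'x

/-- An automorphism normalizing the Thompson subgroup extends fixing `w` on a centric subgroup. -/
theorem exists_centric_ext (hS : IsPGroup p S) (hE : E.IsNormalIn F p) (hw : w ∈ centralizerIn S T)
    (hQc : E.IsCentric Q) (hQn : E.IsFullyNormalized Q) (hab : Above F E w Q)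
    (hbase : ∀ α ∈ E.autGroup (thompsonSubgroupAOf T), (orderOf α).Coprime p →
      Ext F w (thompsonSubgroupAOf T) (autFun α))
    {α : MulAut Q} (hα : α ∈ E.autGroup Q) (hαp : (orderOf α).Coprime p)
    (hαJ : ∀ t ∈ thompsonSubgroupAOf (normalizerIn T Q),
      ∃ t' ∈ thompsonSubgroupAOf (normalizerIn T Q),
        (∀ x ∈ Q, autFun α (t * x * t⁻¹) = t' * autFun α x * t'⁻¹) ∧
          (t ∈ Q → autFun α t = t')) :
    ∃ R, E.IsCentric R ∧ R ≤ Q ∧ (∀ x ∈ R, autFun α x ∈ R) ∧ Ext F w R (autFun α) := by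
  obtain ⟨hEs, hF, hinv⟩ := hE.1
  have hTS : T ≤ S := hinv.2.1.1
  haveI := finite_of_le hTS
  have hTp : IsPGroup p T := hS.of_injective _ (Subgroup.inclusion_injective hTS)
  have hclass := isMapClass_ext (F := F) (E := E) hTS hw
  have hQT := hQc.1
  haveI := finite_of_le hQT
  haveI := NormCent.finite_mulAut Q
  set P := normalizerIn T Q with hP
  have hPT : P ≤ T := inf_le_left
  haveI := finite_of_le hPT
  have hQP : Q ≤ P := le_normalizerIn hQT
  set J := thompsonSubgroupAOf P with hJdef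
  have hJP : J ≤ P := thompsonAOf_le P
  have hαm : IsMap E Q (autFun α) := (isMap_autFun hQT).mpr hα
  have hPJ : P ≤ Subgroup.normalizer (J : Set Ω) := fun t ht =>
    thompsonAOf_normalized hPT (hPT ht) (Subgroup.le_normalizer ht)
  have hNJ : normalizerIn T P ≤ normalizerIn T J := fun t ht =>
    ⟨ht.1, thompsonAOf_normalized hPT ht.1 ht.2⟩
  by_cases hJQ : J ≤ Q
  · -- the Thompson subgroup lies inside
    have hαJ' : ∀ x ∈ J, autFun α x ∈ J := fun x hx => by
      obtain ⟨x', hx', -, e⟩ := hαJ x hx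
      rw [e (hJQ hx)]; exact hx'
    have hαmJ : IsMap E J (autFun α) := hαm.mono hJQ
    haveI := finite_of_le (hJP.trans hPT)
    obtain ⟨β, hβ, eβ⟩ := hαmJ.exists_aut (img_eq_of_apply hαmJ le_rfl hαJ')
    have hCJ : centralizerIn T J ≤ J :=
      centralizerIn_le_of_normalizer hTp hQT hJQ (hQP.trans hPJ) centralizerIn_thompson
    suffices E.IsCentric J ∧ Ext F w J (autFun β) from
      ⟨J, this.1, hJQ, hαJ', hclass.congr J _ _ ((isMap_autFun (hJP.trans hPT)).mpr hβ)
        (fun x hx => (eβ x hx).symm) this.2⟩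
    rcases hPT.eq_or_lt with hPe | hPlt
    · -- the Sylow subgroup
      have hJe : J = thompsonSubgroupAOf T := by rw [hJdef, hPe]
      have hJn : E.IsFullyNormalized J :=
        fullyNormalized_of_normalized (hJP.trans hPT) (hPe.ge.trans hPJ)
      refine ⟨centric_of_fullyCentralized hTp hEs (fullyNormalized_props hTp hEs hJn).1 hCJ, ?_⟩
      have hβp : (orderOf β).Coprime p := by
        refine Nat.Coprime.coprime_dvd_left (orderOf_dvd_of_pow_eq_one
          (eq_one_of_autFun fun x hx => ?_)) hαp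
        rw [← autFun_pow_agree α β hJQ (fun y hy => (eβ y hy).symm) _ x hx, pow_orderOf_eq_one,
          autFun_one (hJQ hx)]
      clear_value J
      subst hJe
      exact hbase β hβ hβp
    · have hQlt : Q < T := lt_of_le_of_lt hQP hPlt
      have hPN : P ≤ normalizerIn T J := fun t ht => ⟨hPT ht, hPJ ht⟩
      have hlt : Nat.card P < Nat.card (normalizerIn T J) := by
        haveI : Finite (normalizerIn T J) := finite_of_le inf_le_left
        have h := lt_normalizerIn hTp hPlt
        refine lt_of_lt_of_le ?_ (Subgroup.card_le_of_le hNJ)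
        haveI : Finite (normalizerIn T P) := finite_of_le inf_le_left
        exact lt_of_le_of_ne (Subgroup.card_le_of_le h.le) fun e =>
          h.ne (Subgroup.eq_of_le_of_card_ge h.le e.ge)
      obtain ⟨J', hJJ', hJ'⟩ := exists_fullyNormalized (F := E) (hJP.trans hPT)
      obtain ⟨f₀, hf₀, hf₀i⟩ := isConj_iff.mp hJJ'
      obtain ⟨hfc', hfa', hrec'⟩ := fullyNormalized_props hTp hEs hJ'
      obtain ⟨-, -, h, hh, hhi, -, hhN⟩ := exists_map_normalizer hTp hfa' hrec' hf₀ hf₀i
      set Q'' := img Q h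
      have hQN : Q ≤ normalizerIn T J := hQP.trans hPN
      have hJi : img J h = J' := hhi
      have hC' : centralizerIn (normalizerIn T Q'') J' ≤ J' := by
        intro c hc
        obtain ⟨a, ha, rfl⟩ := exists_preimage_of_card_le hh hPN inf_le_left
          (fun a ha => hh.mem_normalizerIn hQN (hPN ha) ha.2)
          (hQn.2 _ (isConj_iff.mpr ⟨h, hh.mono hQN, rfl⟩)) hc.1
        rw [← hJi]
        refine IsMap.apply_mem_img (centralizerIn_thompson
          (Fusion.mem_centralizerIn.mpr ⟨ha, fun x hx => ?_⟩))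
        have hxN := hPN (hJP hx)
        refine hh.injOn (Subgroup.mul_mem _ (Subgroup.mul_mem _ (hPN ha) hxN)
          (Subgroup.inv_mem _ (hPN ha))) hxN ?_
        rw [hh.map_conj (hPN ha) hxN]
        exact (Fusion.mem_centralizerIn.mp hc).2 _ (hJi ▸ IsMap.apply_mem_img hx)
      have hCJ' : centralizerIn T J' ≤ J' := by
        refine centralizerIn_le_of_normalizer hTp (IsMap.img_le_iff.mpr fun x hx => (hhN x (hQN hx)).1)
          (hJi ▸ img_mono hJQ h) (IsMap.img_le_iff.mpr fun x hx => (hhN x (hQN hx)).2) hC'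
      have hJ'c : E.IsCentric J' := centric_of_fullyCentralized hTp hEs hfc' hCJ'
      refine ⟨centric_of_isConj hJ'c (isConj_symm hJJ'), ?_⟩
      have hle : Nat.card P ≤ Nat.card (normalizerIn T J') := hlt.le.trans
        (card_le_of_isMap hh le_rfl inf_le_left hhN)
      exact allExt_of_large hS hE hw hQlt hab hJ' hh hhi (hJP.trans hPT) hlt.le
        (hab J' hJ'c hJ' hle (Or.inl (hlt.trans_le (card_le_of_isMap hh le_rfl inf_le_left hhN))))
        β hβ
  · -- a larger subgroup
    have hQlt : Q < T := lt_of_le_of_ne hQT fun e => hJQ (e ▸ hJP.trans hPT)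
    set R := Q ⊔ J
    have hRP : R ≤ P := sup_le hQP hJP
    haveI := finite_of_le (hRP.trans hPT)
    haveI := NormCent.finite_mulAut R
    have hext : R ≤ extSub T Q (autFun α) := sup_le (le_extSub hαm) fun t ht => by
      obtain ⟨t', ht', e, -⟩ := hαJ t ht
      exact mem_extSub.mpr ⟨hPT (hJP ht), (hJP ht).2, t', hPT (hJP ht'), e⟩
    obtain ⟨e₀, he₀, ee₀⟩ := receptive_extend
      (fullyNormalized_props hTp hEs hQn).2.2 hαm (img_autFun α)
    have heR := he₀.mono hext
    have hemem : ∀ x ∈ R, e₀ x ∈ R := by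
      have : img R e₀ ≤ R := by
        rw [heR.img_sup]
        refine sup_le ((img_congr ee₀).trans (img_autFun α) |>.le.trans le_sup_left)
          (IsMap.img_le_iff.mpr fun t ht => ?_)
        obtain ⟨t', ht', e, -⟩ := hαJ t ht
        have htR : t ∈ R := Subgroup.mem_sup_right ht
        have hc : t'⁻¹ * e₀ t ∈ centralizerIn T Q := by
          refine Fusion.mem_centralizerIn.mpr
            ⟨T.mul_mem (T.inv_mem (hPT (hJP ht'))) (heR.mem_S htR), fun x hx => ?_⟩
          obtain ⟨q, hq, rfl⟩ : ∃ q ∈ Q, autFun α q = x :=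
            ⟨autFun α⁻¹ x, autFun_mem _ hx, autFun_inv_apply α hx⟩
          have h1 : e₀ t * autFun α q * (e₀ t)⁻¹ = t' * autFun α q * t'⁻¹ := by
            rw [← ee₀ q hq, ← heR.map_conj htR (Subgroup.mem_sup_left hq),
              ee₀ _ (conj_mem_of_mem_normalizer (hJP ht).2 hq), e q hq, ee₀ q hq]
          calc t'⁻¹ * e₀ t * autFun α q * (t'⁻¹ * e₀ t)⁻¹
              = t'⁻¹ * (e₀ t * autFun α q * (e₀ t)⁻¹) * t' := by group
            _ = autFun α q := by rw [h1]; group
        have h2 : e₀ t = t' * (t'⁻¹ * e₀ t) := by group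
        rw [h2]
        exact R.mul_mem (Subgroup.mem_sup_right ht')
          (Subgroup.mem_sup_left (hQc.2 Q (isConj_refl hQT) hc))
      exact fun x hx => this (IsMap.apply_mem_img hx)
    obtain ⟨a, ha, ea⟩ := heR.exists_aut (img_eq_of_apply heR le_rfl hemem)
    have haQ : ∀ x ∈ Q, autFun a x = autFun α x := fun x hx => by
      rw [ea x (Subgroup.mem_sup_left hx), ee₀ x hx]
    have hRc : E.IsCentric R := Fusion.centric_of_le hQc le_sup_left (hRP.trans hPT)
    have hPR : P ≤ normalizerIn T R := fun t ht => ⟨hPT ht, by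
      refine mem_normalizer_of_maps_finite fun x hx => ?_
      have hc := isMap_conj (F := E) (hRP.trans hPT) (hPT ht)
      have : img R (fun y => t * y * t⁻¹) ≤ R := by
        rw [hc.img_sup]
        exact sup_le (IsMap.img_le_iff.mpr fun y hy =>
            Subgroup.mem_sup_left (conj_mem_of_mem_normalizer ht.2 hy))
          (IsMap.img_le_iff.mpr fun y hy =>
            Subgroup.mem_sup_right (conj_mem_of_mem_normalizer (hPJ ht) hy))
      exact this (IsMap.apply_mem_img hx)⟩
    have hQR : Nat.card Q < Nat.card R :=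
      lt_of_le_of_ne (Subgroup.card_le_of_le le_sup_left) fun e =>
        hJQ (le_sup_right.trans (Subgroup.eq_of_le_of_card_ge (le_sup_left : Q ≤ R) e.ge).ge)
    haveI : Finite (normalizerIn T R) := finite_of_le inf_le_left
    have hlePR := Subgroup.card_le_of_le hPR
    obtain ⟨R', hRR', hR'⟩ := exists_fullyNormalized (F := E) (hRP.trans hPT)
    obtain ⟨f₀, hf₀, hf₀i⟩ := isConj_iff.mp hRR'
    obtain ⟨-, hfa', hrec'⟩ := fullyNormalized_props hTp hEs hR'
    obtain ⟨-, -, h, hh, hhi, -, hhN⟩ := exists_map_normalizer hTp hfa' hrec' hf₀ hf₀i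
    have hRall := allExt_of_large hS hE hw hQlt hab hR' hh hhi (hRP.trans hPT) hlePR
      (hab R' (centric_of_isConj hRc hRR') hR'
        (hlePR.trans (card_le_of_isMap hh le_rfl inf_le_left hhN))
        (Or.inr (hQR.trans_eq (isConj_card hRR').symm)))
    obtain ⟨i, -, hi⟩ := NormCent.exists_coprime_power a hαp
    have hαi : α ^ i = α := by
      conv_rhs => rw [← pow_one α]
      exact pow_eq_pow_iff_modEq.mpr hi
    have hgood := hclass.mono R Q _ ((isMap_autFun (hRP.trans hPT)).mpr (pow_mem ha i)) le_sup_left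
      (hRall _ (pow_mem ha i))
    refine ⟨Q, hQc, le_rfl, fun x hx => autFun_mem α hx, hclass.congr Q _ _
      (((isMap_autFun (hRP.trans hPT)).mpr (pow_mem ha i)).mono le_sup_left) (fun x hx => ?_) hgood⟩
    rw [autFun_pow_agree a α le_sup_left haQ i x hx, hαi]

/-- All automorphisms of centric fully normalized subgroups extend fixing `w`. -/
theorem allExt_main (hp : p ≠ 2) (hS : IsPGroup p S) (hE : E.IsNormalIn F p)
    (hw : w ∈ centralizerIn S T)
    (hbase : ∀ α ∈ E.autGroup (thompsonSubgroupAOf T), (orderOf α).Coprime p →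
      Ext F w (thompsonSubgroupAOf T) (autFun α)) :
    ∀ Q, E.IsCentric Q → E.IsFullyNormalized Q → AllExt F E w Q := by
  obtain ⟨hEs, hF, hinv⟩ := hE.1
  have hsc := hinv.2.1
  have hTS : T ≤ S := hsc.1
  haveI := finite_of_le hTS
  intro Q
  induction hk : (Nat.card T - Nat.card (normalizerIn T Q)) * (Nat.card T + 1) +
    (Nat.card T - Nat.card Q) using Nat.strong_induction_on generalizing Q with
  | _ k ih =>
  intro hQc hQn
  have hQT := hQc.1
  have hQS : Q ≤ S := hQT.trans hTS
  have hab : Above F E w Q := by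
    intro R hRc hRn h1 h2
    refine ih _ ?_ R rfl hRc hRn
    rw [← hk]
    have a1 : Nat.card (normalizerIn T R) ≤ Nat.card T := Subgroup.card_le_of_le inf_le_left
    have a2 : Nat.card R ≤ Nat.card T := Subgroup.card_le_of_le hRc.1
    have a3 : Nat.card Q ≤ Nat.card T := Subgroup.card_le_of_le hQT
    rcases Nat.lt_or_ge (Nat.card (normalizerIn T Q)) (Nat.card (normalizerIn T R)) with h | h
    · have : Nat.card T - Nat.card (normalizerIn T R) + 1 ≤
          Nat.card T - Nat.card (normalizerIn T Q) := by omega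
      calc _ < (Nat.card T - Nat.card (normalizerIn T R) + 1) * (Nat.card T + 1) := by
            rw [add_mul, one_mul]; omega
        _ ≤ (Nat.card T - Nat.card (normalizerIn T Q)) * (Nat.card T + 1) :=
            Nat.mul_le_mul_right _ this
        _ ≤ _ := Nat.le_add_right _ _
    · have e := le_antisymm h h1
      rw [e]
      rcases h2 with h2 | h2 <;> omega
  obtain ⟨Q', g, hg, hi, hgN, hQ', hX'⟩ := exists_good_conj (F := F) hS hF hQS
  have hQN : Q ≤ normalizerIn S Q := le_normalizerIn hQS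
  have hgQ : IsMap F Q g := hg.mono hQN
  have hQ'c : E.IsCentric Q' := hi ▸ CharSub.centricT_img hinv hQc hgQ
  obtain ⟨Λ, _, _, ι, M, hloc⟩ := exists_loc hS hE hQ'c hQ' hX'
  set P := normalizerIn T Q
  set P' := normalizerIn T Q'
  have hPN : P ≤ normalizerIn S Q := fun t ht => ⟨hTS ht.1, ht.2⟩
  have hgP : ∀ t ∈ P, g t ∈ P' := fun t ht =>
    ⟨stronglyClosed_apply hsc hg (hPN ht) ht.1, (hgN t (hPN ht)).2⟩
  have hPi : img P g = P' := by
    haveI : Finite P' := finite_of_le inf_le_left
    refine Subgroup.eq_of_le_of_card_ge (IsMap.img_le_iff.mpr hgP) ?_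
    rw [(hg.mono hPN).card_img]
    exact card_normalizerIn_le hinv hQn hgQ hi
  have hwC : w ∈ centralizerIn S Q := NormCent.centralizerIn_anti hQT hw
  have hwN : w ∈ normalizerIn S Q := centralizerIn_le_normalizerIn Q hwC
  have hwN' : Subgroup.zpowers w ≤ normalizerIn S Q := Subgroup.zpowers_le.mpr hwN
  set w' := g w
  have hw'C : w' ∈ centralizerIn S Q' := hi ▸ hg.mem_centralizerIn hQN hwN hwC
  have hw'P : w' ∈ centralizerIn S P' :=
    hPi ▸ hg.mem_centralizerIn hPN hwN (NormCent.centralizerIn_anti inf_le_left hw)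
  have hJi : img (thompsonSubgroupAOf P) g = thompsonSubgroupAOf P' :=
    thompson_img hS (hg.mono hPN) hPi
  obtain ⟨k, hk', hki, hkl, hkr⟩ := hgQ.exists_inv
  rw [hi] at hk' hki hkr
  set X' := Q' ⊔ centralizerIn S Q'
  have hQ'S := hQ'.1
  have hX'S : X' ≤ S := sup_le hQ'S inf_le_left
  haveI := finite_of_le hX'S
  haveI := NormCent.finite_mulAut X'
  have hfixed := hloc.fix hp hS hTS hQ'c.1 hw'C hw'P fun δ hδ hδp hδJ => by
    obtain ⟨α', hα', eα'⟩ := hδ.2.1
    set α := MulAut.congr (hk'.equiv hki) α'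
    have hα : α ∈ E.autGroup Q := NormCent.congr_mem_sub hinv hQ'c.1 hk' hki hα'
    haveI := finite_of_le hQ'S
    haveI := NormCent.finite_mulAut Q'
    have hα'p : (orderOf α').Coprime p := by
      refine Nat.Coprime.coprime_dvd_left (orderOf_dvd_of_pow_eq_one
        (eq_one_of_autFun fun x hx => ?_)) hδp
      rw [← autFun_pow_agree δ α' le_sup_left eα' _ x hx, pow_orderOf_eq_one,
        autFun_one (Subgroup.mem_sup_left hx)]
    have hαp : (orderOf α).Coprime p := by
      have e := orderOf_injective (MulAut.congr (hk'.equiv hki)).toMonoidHom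
        (MulAut.congr (hk'.equiv hki)).injective α'
      exact e.symm ▸ hα'p
    have hgα : ∀ x ∈ Q, g (autFun α x) = autFun δ (g x) := fun x hx => by
      have hgx : g x ∈ Q' := hi ▸ IsMap.apply_mem_img hx
      rw [eα' _ hgx]
      conv_lhs => rw [← hkl x hx, congr_equiv_spec hk' hki α' hgx]
      exact hkr _ (autFun_mem α' hgx)
    obtain ⟨R, hRc, hRQ, hαR, γ, hγ, eγ, hγw⟩ := exists_centric_ext hS hE hw hQc hQn hab hbase
      hα hαp fun t ht => by
        have htP := thompsonAOf_le P ht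
        obtain ⟨t₁, ht₁, e1, e2⟩ := hδJ (g t) (hJi ▸ IsMap.apply_mem_img ht)
        rw [← hJi] at ht₁
        obtain ⟨t', ht', rfl⟩ := (hg.mono ((thompsonAOf_le P).trans hPN)).mem_img.mp ht₁
        have ht'N := hPN (thompsonAOf_le P ht')
        refine ⟨t', ht', fun x hx => ?_, fun htQ => ?_⟩
        · have hn : t * x * t⁻¹ ∈ Q := conj_mem_of_mem_normalizer htP.2 hx
          have ha := autFun_mem α hx
          refine hg.injOn (hQN (autFun_mem α hn)) (Subgroup.mul_mem _
            (Subgroup.mul_mem _ ht'N (hQN ha)) (Subgroup.inv_mem _ ht'N)) ?_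
          rw [hgα _ hn, hg.map_conj (hPN htP) (hQN hx), hg.map_conj ht'N (hQN ha), hgα x hx]
          exact e1 _ (hi ▸ IsMap.apply_mem_img hx)
        · refine hg.injOn (hQN (autFun_mem α htQ)) ht'N ?_
          rw [hgα t htQ]
          exact e2 (Subgroup.mem_sup_left (hi ▸ IsMap.apply_mem_img htQ))
    have hRN : R ≤ normalizerIn S Q := hRQ.trans hQN
    have hgR : IsMap F R g := hg.mono hRN
    set R' := img R g
    have hR'c : E.IsCentric R' := CharSub.centricT_img hinv hRc hgR
    have hR'Q : R' ≤ Q' := hi ▸ img_mono hRQ g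
    have hδm : IsMap F X' (autFun δ) := (isMap_autFun hX'S).mpr hδ.1
    have hδR : ∀ y ∈ R', autFun δ y ∈ R' := fun y hy => by
      obtain ⟨x, hx, rfl⟩ := hgR.mem_img.mp hy
      rw [← hgα x (hRQ hx)]
      exact IsMap.apply_mem_img (hαR x hx)
    have hα'm : IsMap E R' (autFun α') := ((isMap_autFun hQ'c.1).mpr hα').mono hR'Q
    haveI := finite_of_le hgR.img_le
    obtain ⟨β', hβ', eβ'⟩ := hα'm.exists_aut (img_eq_of_apply hα'm le_rfl fun y hy =>
      (eα' y (hR'Q hy)) ▸ hδR y hy)
    have hgB : IsMap F (R ⊔ Subgroup.zpowers w) g := hg.mono (sup_le hRN hwN')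
    obtain ⟨l, hl, -, hll, -⟩ := hgB.exists_inv
    rw [NormCent.img_sup_zpowers hgB] at hl
    have hlm : ∀ y ∈ R' ⊔ Subgroup.zpowers w', l y ∈ R ⊔ Subgroup.zpowers w := fun y hy => by
      rw [← NormCent.img_sup_zpowers hgB] at hy
      obtain ⟨x, hx, rfl⟩ := hgB.mem_img.mp hy
      rwa [hll x hx]
    have hγB : ∀ x ∈ R ⊔ Subgroup.zpowers w, γ x ∈ R ⊔ Subgroup.zpowers w := by
      have : img (R ⊔ Subgroup.zpowers w) γ ≤ R ⊔ Subgroup.zpowers w := by
        rw [hγ.img_sup]
        exact sup_le_sup (IsMap.img_le_iff.mpr fun x hx => eγ x hx ▸ hαR x hx)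
          (IsMap.img_le_iff.mpr fun x hx => (hγw x hx).symm ▸ hx)
      exact fun x hx => this (IsMap.apply_mem_img hx)
    have hle : R' ⊔ Subgroup.zpowers w' ≤ X' :=
      sup_le (hR'Q.trans le_sup_left) (Subgroup.zpowers_le.mpr (Subgroup.mem_sup_right hw'C))
    refine NormCent.fix_of_coprime (γ := g ∘ (γ ∘ l)) (α := β') (m := orderOf δ) hS hE hR'c
      (NormCent.centralizerIn_anti hR'Q hw'C) hβ'
      ((hl.comp hγ hlm).comp hgB fun x hx => hγB _ (hlm x hx)) (fun y hy => ?_) ?_ (hδm.mono hle)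
      (fun y hy => by rw [eα' y (hR'Q hy), eβ' y hy]) ?_ hδp ?_
    · obtain ⟨x, hx, rfl⟩ := hgR.mem_img.mp hy
      show g (γ (l (g x))) = _
      rw [hll x (Subgroup.mem_sup_left hx), eγ x hx, eβ' _ hy, ← eα' _ (hR'Q hy),
        hgα x (hRQ hx)]
    · show g (γ (l (g w))) = g w
      rw [hll w (Subgroup.mem_sup_right (Subgroup.mem_zpowers w)), hγw w (Subgroup.mem_zpowers w)]
    · refine hR'c.2 R' (isConj_refl hR'c.1) (Fusion.mem_centralizerIn.mpr
        ⟨hQ'c.1 (hδ.2.2 w' hw'C), fun y hy => ?_⟩)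
      have h1 := hδm.mem_centralizerIn le_sup_left (Subgroup.mem_sup_right hw'C) hw'C
      rw [img_eq_of_apply (hδm.mono le_sup_left) le_rfl fun x hx => hδ.map_mem hx] at h1
      exact (Fusion.mem_centralizerIn.mp
        (Subgroup.mul_mem _ (Subgroup.inv_mem _ hw'C) h1)).2 y (hR'Q hy)
    · rw [NormCent.iterate_autFun δ (Subgroup.mem_sup_right hw'C), pow_orderOf_eq_one,
        autFun_one (Subgroup.mem_sup_right hw'C)]
  refine allExt_of_coprime hS hE hw hQn fun α hα hαp => ?_
  set α' := MulAut.congr (hgQ.equiv hi) α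
  have hα' : α' ∈ E.autGroup Q' := NormCent.congr_mem_sub hinv hQT hgQ hi hα
  have hα'p : (orderOf α').Coprime p := by
    have e := orderOf_injective (MulAut.congr (hgQ.equiv hi)).toMonoidHom
      (MulAut.congr (hgQ.equiv hi)).injective α
    exact e.symm ▸ hαp
  obtain ⟨δ, hδ, hδp, hδQ, hδc⟩ := NormCent.exists_coprime_lift
    (NormCent.lift_of_fullyCentralized hS hE hQ'c (fullyNormalized_props hS hF hQ').1 hα') hα'p
  have hfix : autFun δ w' = w' := hfixed δ ⟨hδ, ⟨α', hα', hδQ⟩, hδc⟩ hδp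
  refine NormCent.ext_of_fixed (hg.mono (sup_le hQN hwN')) hgQ hi
    (Subgroup.zpowers_le.mpr hwC) hδ hδQ ?_
  rintro _ ⟨i, rfl⟩
  show autFun δ (g (w ^ i)) = g (w ^ i)
  rw [NormCent.isMap_zpow hg hwN, NormCent.isMap_zpow ((isMap_autFun hX'S).mpr hδ)
    (Subgroup.mem_sup_right hw'C), hfix]

/-- In odd characteristic `C_S(T)` lies in `T` times the centralizer of the subsystem. -/
theorem exists_adm (hp : p ≠ 2) (hS : IsPGroup p S) (hE : E.IsNormalIn F p) {y : Ω}
    (hy : y ∈ centralizerIn S T) :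
    ∃ z ∈ T, NormCent.Adm F E (Subgroup.zpowers (y * z)) := by
  obtain ⟨hEs, hF, hinv⟩ := hE.1
  have hsc := hinv.2.1
  have hTS : T ≤ S := hsc.1
  haveI := finite_of_le hTS
  have hTp : IsPGroup p T := hS.of_injective _ (Subgroup.inclusion_injective hTS)
  set J := thompsonSubgroupAOf T with hJdef
  have hJT : J ≤ T := thompsonAOf_le T
  have hJS : J ≤ S := hJT.trans hTS
  have hSJ : S ≤ Subgroup.normalizer (J : Set Ω) := fun s hs =>
    thompsonAOf_normalized hTS hs (normalizes_of_stronglyClosed hsc hs)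
  have hJc : E.IsCentric J := centric_of_fullyCentralized hTp hEs (fullyNormalized_props hTp hEs
    (fullyNormalized_of_normalized hJT (hTS.trans hSJ))).1 centralizerIn_thompson
  have hJn : F.IsFullyNormalized J := fullyNormalized_of_normalized hJS hSJ
  have hXn : F.IsFullyNormalized (J ⊔ centralizerIn S J) :=
    fullyNormalized_of_normalized (sup_le hJS inf_le_left) fun s hs =>
      (le_normalizerIn_sup hJS ⟨hs, hSJ hs⟩).2
  obtain ⟨Λ, _, _, ι, M, hloc⟩ := exists_loc hS hE hJc hJn hXn
  obtain ⟨z, hz, hw, hfix⟩ := hloc.exists_fixed hS hTS hJT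
    (le_antisymm inf_le_left fun t ht => ⟨ht, hSJ (hTS ht)⟩) hy
  have hwJ : y * z ∈ centralizerIn S J := NormCent.centralizerIn_anti hJT hw
  have hbase : ∀ α ∈ E.autGroup J, (orderOf α).Coprime p → Ext F (y * z) J (autFun α) :=
    fun α hα hαp => by
      obtain ⟨δ, hδ, hδp, hδJ, hδc⟩ := NormCent.exists_coprime_lift
        (NormCent.lift_of_fullyCentralized hS hE hJc (fullyNormalized_props hS hF hJn).1 hα) hαp
      have hX : J ⊔ centralizerIn S J ≤ S := sup_le hJS inf_le_left
      have hδm : IsMap F (J ⊔ centralizerIn S J) (autFun δ) := (isMap_autFun hX).mpr hδ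
      refine ⟨autFun δ, hδm.mono (sup_le_sup_left (Subgroup.zpowers_le.mpr hwJ) J), hδJ, ?_⟩
      rintro _ ⟨i, rfl⟩
      show autFun δ ((y * z) ^ i) = (y * z) ^ i
      rw [NormCent.isMap_zpow hδm (Subgroup.mem_sup_right hwJ),
        hfix δ ⟨hδ, ⟨α, hα, hδJ⟩, hδc⟩ hδp]
  exact ⟨z, hz, adm_of_allExt hS hE hw (allExt_main hp hS hE hw hbase)⟩

end Cfsg.Lib.Fusion.SmallCent
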